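import Cfsg.Agent.Lib.OddOrder.PF10.Sibley.Glue
import Cfsg.Agent.Lib.Isometry.FrobeniusTI
import Cfsg.Agent.Lib.Chars82.PGroupChars
import Cfsg.Agent.Lib.BC78.PowChar

/-!
# Coherence: the coefficients vanish by a congruence

`Z ≤ K'` is normal in `L` and central in `K`; `XΘ` are the irreducible characters of `K` that are not
trivial on `Z`.  The datum is a class function `f` of `L` computing the inner products of `T₀ ζ` with
`τ` of the degree-zero lattice and satisfying, if it is constant on `Z#`, the congruence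
`f 1 - f z ∈ |K| ℤ` (in the application the restriction of `T₀ ζ`, `K` being a TI Sylow subgroup).

* `coef_free`: all members over `XΘ` irreducible and `K` a `p`-group;
* `coef_central`: `Z` of prime order.

`coherent_all` adjoins the remaining members `S(Z)`.

Owner: helper43.
-/

set_option autoImplicit false
set_option linter.style.haveILetI false
set_option linter.unusedSectionVars false

namespace Cfsg.Agent.Lib.OddOrder.PF10.Sibley

open scoped ComplexConjugate Classical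
open Cfsg.Agent.Lib
open Cfsg.Agent.Lib.Isometry Cfsg.Agent.Lib.Isometry.Inner Cfsg.Agent.Lib.Isometry.Coherence
open Cfsg.Agent.Lib.Isometry.InducedSystem (above theta mem_theta coe_above above_anti)
open Cfsg.Agent.Lib.Induced.Basic (classInner_sub_left classInner_sub_right classInner_smul_left
  classInner_smul_right classInner_conj_symm frobenius_reciprocity')
open Cfsg.Agent.Lib.Characters.Basic (classInner_sum_left classInner_sum_right)

universe u v

variable {L : Type u} [Group L] [Fintype L] {G : Type v} [Group G] [Fintype G]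
  {K : Subgroup L} [hK : K.Normal]
  {τ : (L → ℂ) → (G → ℂ)} {R : (L → ℂ) → Finset (G → ℂ)}
  {T₀ : (L → ℂ) → (G → ℂ)} {ζ : L → ℂ} {Z : Subgroup L} [Z.Normal] {f : L → ℂ}

/-- The irreducible characters of `K` not trivial on `Z`. -/
noncomputable abbrev offZ (K Z : Subgroup L) : Finset (K → ℂ) :=
  Inflate.layer (Z.subgroupOf K) ⊥

/-- The members of `S` induced from them. -/
noncomputable abbrev offS (K Z : Subgroup L) : Finset (L → ℂ) :=
  (offZ K Z).image (Cfsg.indFun K)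

theorem mem_offZ {θ : K → ℂ} : θ ∈ offZ K Z ↔
    Cfsg.IsIrrCharacter K θ ∧ ∃ z : K, (z : L) ∈ Z ∧ θ z ≠ θ 1 := by
  rw [Inflate.mem_layer]
  exact ⟨fun ⟨h, _, g, hg, hne⟩ => ⟨h, g, Subgroup.mem_subgroupOf.1 hg, hne⟩,
    fun ⟨h, g, hg, hne⟩ => ⟨h, fun x hx => by rw [Subgroup.mem_bot.1 hx],
      g, Subgroup.mem_subgroupOf.2 hg, hne⟩⟩

theorem offZ_theta {θ : K → ℂ} (h : θ ∈ offZ K Z) : θ ∈ theta K ⊥ := by
  obtain ⟨h1, z, -, hne⟩ := mem_offZ.1 h
  exact (mem_theta K).2 ⟨h1, fun e => hne (by rw [e]),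
    fun a ha => by rw [show a = 1 from Subtype.ext (Subgroup.mem_bot.1 ha)]⟩

theorem offS_subset : (↑(offS K Z) : Set (L → ℂ)) ⊆ Cfsg.inducedIrrAbove K ⊥ := by
  intro χ hχ
  obtain ⟨θ, hθ, rfl⟩ := Finset.mem_image.1 (Finset.mem_coe.1 hχ)
  exact mem_S (A := ⊥) (Finset.mem_image_of_mem _ (offZ_theta hθ))

theorem offS_conj {χ : L → ℂ} (h : χ ∈ offS K Z) : Cfsg.conjFun χ ∈ offS K Z := by
  obtain ⟨θ, hθ, rfl⟩ := Finset.mem_image.1 h
  exact Finset.mem_image.2 ⟨Cfsg.conjFun θ, Inflate.conj_mem_layer hθ,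
    funext fun g => (Induced.Basic.indFun_conj_fun K θ g).symm⟩

/-- A member over `XΘ` is not in `S(A)` for `Z ≤ A`. -/
theorem offS_not_above {A : Subgroup L} [A.Normal] (hZA : Z ≤ A)
    (hS : Cfsg.IsCoherenceSystem (Cfsg.inducedIrrAbove K ⊥) τ R) {χ : L → ℂ}
    (h : χ ∈ offS K Z) : χ ∉ above K A := by
  intro hA
  obtain ⟨θ, hθ, rfl⟩ := Finset.mem_image.1 h
  obtain ⟨θ', hθ', e⟩ := Finset.mem_image.1 hA
  obtain ⟨hi, z, hz, hne⟩ := mem_offZ.1 hθ
  obtain ⟨hi', -, htriv⟩ := (mem_theta K).1 hθ'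
  have hne0 : Cfsg.classInner (fun k : K => Cfsg.indFun K θ' k) θ ≠ 0 := by
    rw [e, ← frobenius_reciprocity' K θ (Induced.Basic.isClassFunction_indFun K θ)]
    intro h0
    exact sys_ne_zero hS (offS_subset (Finset.mem_coe.2 h)) (eq_zero_of_classInner_self h0)
  obtain ⟨x, hx⟩ := InducedSystem.constituent_eq K hi' hi hne0
  refine hne ?_
  rw [hx, Clifford.Basic.conjC_apply, Clifford.Basic.conjC_apply,
    htriv _ (Subgroup.Normal.conj_mem inferInstance (z : L) (hZA hz) x)]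
  congr 1
  exact Subtype.ext (by simp)

/-- Sums over `XΘ`. -/
theorem sum_offZ (hZK : Z ≤ K) :
    ∑ θ ∈ offZ K Z, θ 1 * θ 1 = (Nat.card K : ℂ) - (Z.relIndex K : ℂ) := by
  rw [Inflate.sum_sq_layer bot_le, Subgroup.index_bot]
  rfl

theorem sum_offZ_sub {z : K} (hz : (z : L) ∈ Z) (hz1 : z ≠ 1) :
    ∑ θ ∈ offZ K Z, θ 1 * (θ 1 - θ z) = (Nat.card K : ℂ) := by
  have h1 := Inflate.sum_sq_layer (L := K) (A := Z.subgroupOf K) (B := ⊥) bot_le
  have h2 := Inflate.sum_layer (L := K) (A := Z.subgroupOf K) (B := ⊥) bot_le z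
  rw [if_neg (fun h => hz1 (Subgroup.mem_bot.1 h)), if_pos (Subgroup.mem_subgroupOf.2 hz)] at h2
  simp only [mul_sub, Finset.sum_sub_distrib]
  rw [h1, h2, Subgroup.index_bot]
  ring

/-- The datum on `T₀ ζ`. -/
structure Datum (K Z : Subgroup L) (τ T₀ : (L → ℂ) → (G → ℂ)) (ζ f : L → ℂ) : Prop where
  classFun : Cfsg.IsClassFunction L f
  int : ∃ v : ℤ, Cfsg.classInner f ζ = (v : ℂ)
  recip : ∀ α ∈ Cfsg.zspanOn (Cfsg.inducedIrrAbove K ⊥) {1}ᶜ,
    Cfsg.classInner (T₀ ζ) (τ α) = Cfsg.classInner f α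
  congr : (∀ z ∈ Z, ∀ z' ∈ Z, z ≠ 1 → z' ≠ 1 → f z = f z') →
    ∀ z ∈ Z, z ≠ 1 → ∃ k : ℤ, f 1 - f z = (k : ℂ) * (Nat.card K : ℂ)

namespace Base

variable (b : Base K τ R T₀ ζ) (D : Datum K Z τ T₀ ζ f) (hZK' : Z ≤ ⁅K, K⁆)

include b D hZK'

theorem not_lin {θ : K → ℂ} (hθ : θ ∈ offZ K Z) : Cfsg.indFun K θ ∉ lin K :=
  offS_not_above hZK' b.sys (Finset.mem_image_of_mem _ hθ)

theorem dg_ind {θ : K → ℂ} (hθ : θ ∈ theta K ⊥) : dg K (Cfsg.indFun K θ) = θ 1 := by
  obtain ⟨m, -, hm, h1⟩ := InducedSystem.indFun_one K hθ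
  rw [dg, h1, hm, Nat.cast_mul, mul_comm, mul_div_assoc, div_self (index_ne_zero K), mul_one]

/-- The inner products of `f` with the characters in `XΘ`. -/
theorem inner_f {θ : K → ℂ} (hθ : θ ∈ offZ K Z) :
    Cfsg.classInner (fun k : K => f k) θ =
      coef K τ T₀ ζ (Cfsg.indFun K θ) + θ 1 * (Cfsg.classInner f ζ - 1) := by
  have hS : Cfsg.indFun K θ ∈ Cfsg.inducedIrrAbove K ⊥ :=
    offS_subset (Finset.mem_coe.2 (Finset.mem_image_of_mem _ hθ))
  obtain ⟨m, -, hm, -⟩ := exists_dg hS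
  have h := D.recip _ (b.phi_mem hS)
  rw [classInner_gen_comm (b.T_gen b.zeta) (b.phi_gen hS), classInner_sub_right,
    classInner_smul_right, hm, map_natCast, frobenius_reciprocity' K θ D.classFun, ← hm,
    b.dg_ind D hZK' (offZ_theta hθ)] at h
  rw [coef, b.dg_ind D hZK' (offZ_theta hθ)]
  linear_combination -h

/-- The expansion of `f 1 - f z`. -/
theorem f_sub {z : K} (hz : (z : L) ∈ Z) :
    f 1 - f z = ∑ θ ∈ offZ K Z, Cfsg.classInner (fun k : K => f k) θ * (θ 1 - θ z) := by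
  set g : K → ℂ := fun k => f k
  have hexp := FrobeniusTI.expansion (L := K) (f := g) (FrobeniusTI.restr_isClassFunction D.classFun)
  have e1 : g 1 - g z = ∑ χ ∈ Inflate.trivOn (⊥ : Subgroup K),
      Cfsg.classInner g χ * (χ 1 - χ z) := by
    conv_lhs => rw [show g = _ from hexp]
    simp only [Finset.sum_apply, Pi.smul_apply, smul_eq_mul, mul_sub, Finset.sum_sub_distrib]
  rw [← Finset.sum_sdiff (Inflate.trivOn_mono (bot_le : (⊥ : Subgroup K) ≤ Z.subgroupOf K)),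
    Finset.sum_eq_zero (s := Inflate.trivOn (Z.subgroupOf K)) (fun χ hχ => by
      rw [(Inflate.mem_trivOn.1 hχ).2 z (Subgroup.mem_subgroupOf.2 hz), sub_self, mul_zero]),
    add_zero] at e1
  convert e1 using 1
  · show f 1 - f z = f ((1 : K) : L) - f z
    rw [OneMemClass.coe_one]
  · exact Finset.sum_congr (by rw [offZ, Inflate.layer]; congr!) fun _ _ => rfl

/-- The free case. -/
theorem coef_free (hirr : ∀ θ ∈ offZ K Z, Cfsg.IsIrrCharacter L (Cfsg.indFun K θ))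
    {p e r : ℕ} (hp : p.Prime) (hp3 : 3 ≤ p) (hcard : Nat.card K = p ^ e)
    (hr : Z.relIndex K = p ^ r) (hcop : Nat.Coprime p K.index) (hZ : Z ≠ ⊥)
    (hZc : ∀ z ∈ Z, ∀ k ∈ K, z * k = k * z) :
    (∀ χ ∈ offS K Z, coef K τ T₀ ζ χ = 0) ∨
      ((lin K).card = 2 ∧ ∀ χ ∈ offS K Z, coef K τ T₀ ζ χ = dg K χ) := by
  have hZK : Z ≤ K := hZK'.trans (Subgroup.commutator_le_self K)
  obtain ⟨z₀, hz₀, hz₀1⟩ := Z.bot_or_exists_ne_one.resolve_left hZ
  -- degrees
  have hdeg : ∀ θ ∈ offZ K Z, ∃ k : ℕ, θ 1 = ((p ^ k : ℕ) : ℂ) ∧ p ^ (2 * k) ∣ p ^ r := by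
    intro θ hθ
    have hi := (mem_offZ.1 hθ).1
    obtain ⟨d, -, hdd, hd⟩ := Characters.Degree.exists_degree_dvd (⟨θ, hi⟩ : Cfsg.IrrCharacter K)
    replace hd : θ 1 = (d : ℂ) := hd
    rw [hcard] at hdd
    obtain ⟨k, -, hk⟩ := (Nat.dvd_prime_pow hp).1 hdd
    refine ⟨k, by rw [hd, hk], ?_⟩
    have hle := (Chars82.PGroupChars.degree_sq_mul_le ⟨θ, hi⟩ (d := d) hd).1
    have hZc' : Nat.card ↥(Z.subgroupOf K) ≤ Nat.card ↥(Subgroup.center K) :=
      Nat.le_of_dvd Nat.card_pos (Subgroup.card_dvd_of_le fun x hx => Subgroup.mem_center_iff.2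
        fun k => Subtype.ext (hZc x (Subgroup.mem_subgroupOf.1 hx) k k.2).symm)
    have hmul : Nat.card ↥(Z.subgroupOf K) * Z.relIndex K = Nat.card K :=
      Subgroup.card_mul_index (Z.subgroupOf K)
    have hb : d ^ 2 ≤ Z.relIndex K := by
      refine Nat.le_of_mul_le_mul_left ?_ (Nat.card_pos (α := ↥(Z.subgroupOf K)))
      calc Nat.card ↥(Z.subgroupOf K) * d ^ 2 ≤ Nat.card ↥(Subgroup.center K) * d ^ 2 :=
            Nat.mul_le_mul_right _ hZc'
        _ ≤ Nat.card K := by rw [mul_comm]; exact hle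
        _ = _ := hmul.symm
    rw [hr, hk, ← pow_mul] at hb
    exact Nat.pow_dvd_pow p (by
      have := (Nat.pow_le_pow_iff_right hp.one_lt).1 hb
      omega)
  have hkex : ∀ χ, ∃ k : ℕ, χ ∈ offS K Z → χ 1 = ((K.index * p ^ k : ℕ) : ℂ) ∧
      p ^ (2 * k) ∣ p ^ r := fun χ => by
    by_cases h : χ ∈ offS K Z
    · obtain ⟨θ, hθ, rfl⟩ := Finset.mem_image.1 h
      obtain ⟨k, hk, hk'⟩ := hdeg θ hθ
      exact ⟨k, fun _ => ⟨by rw [Induced.Basic.indFun_one, hk]; push_cast; ring, hk'⟩⟩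
    · exact ⟨0, fun h' => absurd h' h⟩
  choose k hk using hkex
  have hnorm : ∀ χ ∈ offS K Z, Cfsg.classInner χ χ = 1 := fun χ hχ => by
    obtain ⟨θ, hθ, rfl⟩ := Finset.mem_image.1 hχ
    rw [classInner_irr_eq (hirr θ hθ) (hirr θ hθ), if_pos rfl]
  have hne : (offS K Z).Nonempty := by
    obtain ⟨θ, hθ⟩ := Inflate.layer_nonempty (A := Z.subgroupOf K) (B := ⊥)
      (bot_lt_iff_ne_bot.2 fun h => hz₀1 (by
        have : (⟨z₀, hZK hz₀⟩ : K) ∈ Z.subgroupOf K := Subgroup.mem_subgroupOf.2 hz₀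
        rw [h, Subgroup.mem_bot] at this
        exact congrArg Subtype.val this))
    exact ⟨_, Finset.mem_image_of_mem _ hθ⟩
  have hsys : Cfsg.IsCoherenceSystem (↑(offS K Z) : Set (L → ℂ)) τ R :=
    Iterate.sys_mono b.sys offS_subset (Finset.coe_nonempty.2 hne)
      (fun χ h => Finset.mem_coe.2 (offS_conj (Finset.mem_coe.1 h)))
  -- the sum of the squares of the degrees in `X`
  have hsum : K.index * ∑ χ ∈ offS K Z, p ^ (2 * k χ) + p ^ r = Nat.card K := by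
    have h1 := InducedSystem.sum_sq_norm K b.sys subset_rfl ⊥ bot_le
    have h2 := InducedSystem.sum_sq_norm K b.sys subset_rfl Z hZK
    have hdn : ∀ φ, ∃ d n : ℕ, φ ∈ above K ⊥ →
        φ 1 = (d : ℂ) ∧ Cfsg.classInner φ φ = (n : ℂ) := fun φ => by
      by_cases h : φ ∈ above K ⊥
      · obtain ⟨m, -, -, hm⟩ := exists_dg (mem_S h)
        obtain ⟨n, -, hn, -, -⟩ := sys_norm b.sys (mem_S h)
        exact ⟨K.index * m, n, fun _ => ⟨by rw [hm]; push_cast; ring, hn⟩⟩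
      · exact ⟨0, 0, fun h' => absurd h' h⟩
    choose d n hdn using hdn
    have e1 := h1 d n (fun φ h => (hdn φ h).1) (fun φ h => (hdn φ h).2)
    have e2 := h2 d n (fun φ h => (hdn φ (above_anti K bot_le h)).1)
      (fun φ h => (hdn φ (above_anti K bot_le h)).2)
    have hsplit : above K ⊥ = above K Z ∪ offS K Z := by
      ext φ
      refine ⟨fun h => ?_, fun h => ?_⟩
      · obtain ⟨θ, hθ, rfl⟩ := Finset.mem_image.1 h
        by_cases htriv : ∀ a : K, (a : L) ∈ Z → θ a = θ 1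
        · exact Finset.mem_union_left _ (Finset.mem_image_of_mem _ ((mem_theta K).2
            ⟨((mem_theta K).1 hθ).1, ((mem_theta K).1 hθ).2.1, htriv⟩))
        · push Not at htriv
          obtain ⟨a, ha, hne⟩ := htriv
          exact Finset.mem_union_right _ (Finset.mem_image_of_mem _
            (mem_offZ.2 ⟨((mem_theta K).1 hθ).1, a, ha, hne⟩))
      · rcases Finset.mem_union.1 h with h | h
        · exact above_anti K bot_le h
        · obtain ⟨θ, hθ, rfl⟩ := Finset.mem_image.1 h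
          exact Finset.mem_image_of_mem _ (offZ_theta hθ)
    rw [hsplit, Finset.sum_union (Finset.disjoint_right.2 fun φ h =>
      offS_not_above le_rfl b.sys h), e2, Subgroup.relIndex_bot_left, hr] at e1
    have e3 : ∑ φ ∈ offS K Z, ((d φ : ℝ) ^ 2 / (n φ : ℝ)) =
        (K.index : ℝ) ^ 2 * ∑ χ ∈ offS K Z, ((p ^ (2 * k χ) : ℕ) : ℝ) := by
      rw [Finset.mul_sum]
      refine Finset.sum_congr rfl fun φ hφ => ?_
      have hφ' : φ ∈ above K ⊥ := by rw [hsplit]; exact Finset.mem_union_right _ hφ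
      have hd : d φ = K.index * p ^ k φ := by
        exact_mod_cast (hdn φ hφ').1.symm.trans (hk φ hφ).1
      have hn : n φ = 1 := by exact_mod_cast (hdn φ hφ').2.symm.trans (hnorm φ hφ)
      rw [hd, hn, mul_comm 2 (k φ), pow_mul]
      push_cast
      ring
    rw [e3] at e1
    have hq : (K.index : ℝ) ≠ 0 := Nat.cast_ne_zero.2 Subgroup.index_ne_zero_of_finite
    have e4 : ((K.index * ∑ χ ∈ offS K Z, p ^ (2 * k χ) + p ^ r : ℕ) : ℝ) = (Nat.card K : ℝ) := by
      push_cast at e1 ⊢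
      apply mul_left_cancel₀ hq
      linear_combination e1
    exact_mod_cast e4
  have hcoh : Cfsg.IsCoherent (↑(offS K Z) : Set (L → ℂ)) {1}ᶜ τ := by
    refine Iterate.coherent_pPower (offS K Z) hsys hnorm K.index p
      (Nat.pos_of_ne_zero Subgroup.index_ne_zero_of_finite) hp3 k (fun φ h => (hk φ h).1)
      (fun φ h => ?_)
    have h1 : p ^ (2 * k φ) ∣ Nat.card K :=
      (hk φ h).2.trans (hr ▸ Subgroup.index_dvd_card _)
    rw [← hsum, ← Nat.dvd_add_iff_left (hk φ h).2] at h1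
    exact (Nat.Coprime.dvd_mul_left (Nat.Coprime.pow_left _ hcop)).1 h1
  obtain ⟨-, T, hT, hag⟩ := hcoh
  -- `f` is proportional to the degree on `XΘ`
  have hprop : ∀ θ ∈ offZ K Z, ∀ θ' ∈ offZ K Z,
      θ' 1 * Cfsg.classInner (fun k : K => f k) θ = θ 1 * Cfsg.classInner (fun k : K => f k) θ' := by
    intro θ hθ θ' hθ'
    have hm := Finset.mem_image_of_mem (Cfsg.indFun K) hθ
    have hm' := Finset.mem_image_of_mem (Cfsg.indFun K) hθ'
    obtain ⟨m, -, hm1, hχ1⟩ := exists_dg (offS_subset (Finset.mem_coe.2 hm))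
    obtain ⟨m', -, hm1', hχ1'⟩ := exists_dg (offS_subset (Finset.mem_coe.2 hm'))
    have hz0 : ∀ φ ∈ offS K Z, Cfsg.classInner (T₀ ζ) (T φ) = 0 := by
      intro φ hφ
      obtain ⟨x, hx⟩ := Criterion.image_mem b.sys offS_subset hT hag (Finset.mem_coe.2 hφ)
        (Finset.mem_coe.2 (offS_conj hφ))
      rw [hx, classInner_sum_right]
      exact Finset.sum_eq_zero fun s hs => by
        rw [classInner_smul_right, b.R_orth (offS_subset (Finset.mem_coe.2 hφ))
          (offS_not_above hZK' b.sys hφ) b.zeta hs, mul_zero]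
    have hmem : ((m' : ℤ) : ℂ) • Cfsg.indFun K θ - ((m : ℤ) : ℂ) • Cfsg.indFun K θ' ∈
        Cfsg.zspanOn (↑(offS K Z) : Set (L → ℂ)) {1}ᶜ :=
      mem_zspanOn_one.2 ⟨zspan_sub (zspan_smul _ (subset_zspan _ (Finset.mem_coe.2 hm)))
        (zspan_smul _ (subset_zspan _ (Finset.mem_coe.2 hm'))), by
          rw [Pi.sub_apply, Pi.smul_apply, Pi.smul_apply, smul_eq_mul, smul_eq_mul, hχ1, hχ1']
          push_cast; ring⟩
    have h := D.recip _ (zspanOn_mono _ offS_subset hmem)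
    rw [← hag _ hmem, Criterion.span_iso_sub hT (zspan_smul _ (subset_zspan _ (Finset.mem_coe.2 hm)))
      (zspan_smul _ (subset_zspan _ (Finset.mem_coe.2 hm'))), Criterion.span_iso_smul hT
      (subset_zspan _ (Finset.mem_coe.2 hm)), Criterion.span_iso_smul hT
      (subset_zspan _ (Finset.mem_coe.2 hm')), classInner_sub_right, classInner_smul_right,
      classInner_smul_right, hz0 _ hm, hz0 _ hm', mul_zero, mul_zero, sub_zero, classInner_sub_right,
      classInner_smul_right, classInner_smul_right, map_intCast, map_intCast,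
      frobenius_reciprocity' K θ D.classFun, frobenius_reciprocity' K θ' D.classFun] at h
    rw [b.dg_ind D hZK' (offZ_theta hθ)] at hm1
    rw [b.dg_ind D hZK' (offZ_theta hθ')] at hm1'
    rw [hm1, hm1']
    push_cast at h
    linear_combination -h
  obtain ⟨θ₀, hθ₀⟩ : (offZ K Z).Nonempty := Finset.image_nonempty.1 hne
  have hθ₀1 : θ₀ 1 ≠ 0 := Characters.Basic.apply_one_ne_zero ⟨θ₀, (mem_offZ.1 hθ₀).1⟩
  set w := Cfsg.classInner (fun k : K => f k) θ₀ / θ₀ 1 with hw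
  have hlinear : ∀ θ ∈ offZ K Z, Cfsg.classInner (fun k : K => f k) θ = w * θ 1 := fun θ hθ => by
    rw [hw, div_mul_eq_mul_div, eq_div_iff hθ₀1]
    linear_combination hprop θ hθ θ₀ hθ₀
  have hval : ∀ z ∈ Z, z ≠ 1 → f 1 - f z = w * (Nat.card K : ℂ) := by
    intro z hz hz1
    have h := b.f_sub D hZK' (z := ⟨z, hZK hz⟩) hz
    rw [show f z = f ((⟨z, hZK hz⟩ : K) : L) from rfl, h, Finset.sum_congr rfl fun θ hθ => by
      rw [hlinear θ hθ, mul_assoc], ← Finset.mul_sum,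
      sum_offZ_sub (z := ⟨z, hZK hz⟩) hz fun e => hz1 (congrArg Subtype.val e)]
  obtain ⟨j, hj⟩ := D.congr (fun z hz z' hz' h h' => by
    linear_combination hval z' hz' h' - hval z hz h) z₀ hz₀ hz₀1
  have hwj : w = j := mul_right_cancel₀ (Nat.cast_ne_zero.2 Nat.card_pos.ne' : (Nat.card K : ℂ) ≠ 0)
    ((hval z₀ hz₀ hz₀1).symm.trans hj)
  obtain ⟨v, hv⟩ := D.int
  have hcoef : ∀ θ ∈ offZ K Z,
      coef K τ T₀ ζ (Cfsg.indFun K θ) = θ 1 * (((j - v + 1 : ℤ)) : ℂ) := fun θ hθ => by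
    have h := b.inner_f D hZK' hθ
    rw [hlinear θ hθ, hwj, hv] at h
    push_cast
    linear_combination -h
  set m := j - v + 1 with hmdef
  have hS₀ := offS_subset (Finset.mem_coe.2 (Finset.mem_image_of_mem (Cfsg.indFun K) hθ₀))
  obtain ⟨a, d, ha, hd, hle⟩ := b.coef_bound hS₀ (b.not_lin D hZK' hθ₀)
  rw [b.dg_ind D hZK' (offZ_theta hθ₀)] at hd
  rw [hcoef θ₀ hθ₀, hd] at ha
  have ha' : (a : ℤ) = d * m := by exact_mod_cast ha.symm
  have hd0 : (0 : ℤ) < d := by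
    rcases Nat.eq_zero_or_pos d with h | h
    · exact absurd (by rw [hd, h, Nat.cast_zero]) hθ₀1
    · exact_mod_cast h
  have hle' : (a : ℤ) * (lin K).card ≤ 2 * d := by exact_mod_cast hle
  have hm0 : 0 ≤ m := nonneg_of_mul_nonneg_right (by rw [← ha']; positivity) hd0
  have hN : (2 : ℤ) ≤ (lin K).card := by exact_mod_cast b.card_two_le
  have hmN : m * (lin K).card ≤ 2 := by
    rw [ha'] at hle'
    exact le_of_mul_le_mul_left (by linarith) hd0
  have hm1 : m ≤ 1 := by nlinarith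
  rcases (show m = 0 ∨ m = 1 by omega) with h | h
  · refine Or.inl fun χ hχ => ?_
    obtain ⟨θ, hθ, rfl⟩ := Finset.mem_image.1 hχ
    rw [hcoef θ hθ, h, Int.cast_zero, mul_zero]
  · refine Or.inr ⟨by rw [h, one_mul] at hmN; omega, fun χ hχ => ?_⟩
    obtain ⟨θ, hθ, rfl⟩ := Finset.mem_image.1 hχ
    rw [hcoef θ hθ, h, Int.cast_one, mul_one, b.dg_ind D hZK' (offZ_theta hθ)]

/-- The central case. -/
theorem coef_central {p : ℕ} (hp : p.Prime) (hcard : Nat.card Z = p)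
    (hcardK : ∃ e, Nat.card K = p ^ e) (hZc : ∀ z ∈ Z, ∀ k ∈ K, z * k = k * z) :
    (∀ χ ∈ offS K Z, coef K τ T₀ ζ χ = 0) ∨
      ((lin K).card = 2 ∧ ∀ χ ∈ offS K Z, coef K τ T₀ ζ χ = dg K χ) := by
  haveI : Fact p.Prime := ⟨hp⟩
  have hZK : Z ≤ K := hZK'.trans (Subgroup.commutator_le_self K)
  obtain ⟨e, hcardK⟩ := hcardK
  set Z' := Z.subgroupOf K with hZ'
  have hcardZ' : Nat.card Z' = p :=
    (Nat.card_congr (Subgroup.subgroupOfEquivOfLe hZK).toEquiv).trans hcard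
  set g : K → ℂ := fun k => f k with hg
  -- `f` is constant on `Z#`
  have hcop : ∀ t : ℕ, ¬ p ∣ t → t.Coprime (Nat.card K) := fun t ht => by
    rw [hcardK]
    exact Nat.Coprime.pow_right _ ((hp.coprime_iff_not_dvd.2 ht).symm)
  have hpow : ∀ (t : ℕ), ¬ p ∣ t → ∀ θ ∈ offZ K Z,
      (fun x : K => θ (x ^ t)) ∈ offZ K Z ∧ Cfsg.classInner g (fun x : K => θ (x ^ t)) =
        Cfsg.classInner g θ := by
    intro t ht θ hθ
    obtain ⟨hi, z, hz, hne⟩ := mem_offZ.1 hθ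
    set σ := powCoprime (G := K) (n := t) (hcop t ht).symm with hσ
    have hmem : (fun x : K => θ (x ^ t)) ∈ offZ K Z := by
      refine mem_offZ.2 ⟨BC78.PowChar.isIrrCharacter_pow hi (hcop t ht), σ.symm z, ?_, ?_⟩
      · obtain ⟨y, hy⟩ := (powCoprime (G := Z') (n := t)
          (((hcop t ht).coprime_dvd_right (Subgroup.card_subgroup_dvd_card Z')).symm)).surjective
          ⟨z, Subgroup.mem_subgroupOf.2 hz⟩
        have : σ.symm z = (y : K) := σ.symm_apply_eq.2 (congrArg Subtype.val hy).symm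
        rw [this]
        exact Subgroup.mem_subgroupOf.1 y.2
      · show θ (σ.symm z ^ t) ≠ θ ((1 : K) ^ t)
        rw [one_pow, show σ.symm z ^ t = z from σ.apply_symm_apply z]
        exact hne
    refine ⟨hmem, ?_⟩
    have h1 : Cfsg.indFun K (fun x : K => θ (x ^ t)) 1 = Cfsg.indFun K θ 1 := by
      rw [Induced.Basic.indFun_one, Induced.Basic.indFun_one, one_pow]
    rw [b.inner_f D hZK' hmem, b.inner_f D hZK' hθ,
      b.coef_eq (offS_subset (Finset.mem_coe.2 (Finset.mem_image_of_mem _ hmem)))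
        (b.not_lin D hZK' hmem) (offS_subset (Finset.mem_coe.2 (Finset.mem_image_of_mem _ hθ)))
        (b.not_lin D hZK' hθ) h1]
    simp only [one_pow]
  have hconst : ∀ z ∈ Z, ∀ z' ∈ Z, z ≠ 1 → z' ≠ 1 → f z = f z' := by
    intro z hz z' hz' h1 h1'
    have hgen : Subgroup.zpowers (⟨z, hz⟩ : Z) = ⊤ :=
      zpowers_eq_top_of_prime_card hcard (fun e => h1 (congrArg Subtype.val e))
    obtain ⟨t, ht⟩ : ∃ t : ℕ, (⟨z, hz⟩ : Z) ^ t = ⟨z', hz'⟩ :=
      Submonoid.mem_powers_iff _ _ |>.1 (mem_powers_iff_mem_zpowers.2 (hgen ▸ Subgroup.mem_top _))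
    have htp : ¬ p ∣ t := fun ⟨c, hc⟩ => h1' (by
      have : (⟨z, hz⟩ : Z) ^ t = 1 := by rw [hc, pow_mul, ← hcard, pow_card_eq_one', one_pow]
      rw [ht] at this
      exact congrArg Subtype.val this)
    obtain ⟨s, -, hs⟩ := Nat.exists_mul_mod_eq_one_of_coprime (hcop t htp)
      (by rw [hcardK]; exact Nat.one_lt_pow (fun he => by
        have : Nat.card Z ∣ Nat.card K := Subgroup.card_dvd_of_le hZK
        rw [hcardK, he, pow_zero, hcard, Nat.dvd_one] at this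
        exact hp.ne_one this) hp.one_lt)
    have hinv : ∀ x : K, (x ^ t) ^ s = x := fun x => by
      rw [← pow_mul, ← pow_mod_natCard, hs, pow_one]
    have hinv' : ∀ x : K, (x ^ s) ^ t = x := fun x => by rw [← pow_mul, mul_comm, pow_mul, hinv]
    have hsp : ¬ p ∣ s := fun ⟨c, hc⟩ => h1 (by
      have := congrArg (fun x : K => (x : L)) (hinv ⟨z, hZK hz⟩)
      simp only [SubmonoidClass.coe_pow] at this
      rw [← this, hc, ← pow_mul, mul_left_comm, pow_mul,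
        show z ^ p = 1 by
          rw [← hcard]; exact congrArg Subtype.val (pow_card_eq_one' (x := (⟨z, hz⟩ : Z))),
        one_pow])
    have e1 := b.f_sub D hZK' (z := ⟨z, hZK hz⟩) hz
    have e2 := b.f_sub D hZK' (z := ⟨z', hZK hz'⟩) hz'
    have e3 : ∑ θ ∈ offZ K Z, Cfsg.classInner g θ * (θ 1 - θ ⟨z', hZK hz'⟩) =
        ∑ θ ∈ offZ K Z, Cfsg.classInner g θ * (θ 1 - θ ⟨z, hZK hz⟩) := by
      refine Finset.sum_bij' (fun θ _ => fun x : K => θ (x ^ t)) (fun θ _ => fun x : K => θ (x ^ s))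
        (fun θ h => (hpow t htp θ h).1) (fun θ h => (hpow s hsp θ h).1)
        (fun θ _ => funext fun x => congrArg θ (hinv' x))
        (fun θ _ => funext fun x => congrArg θ (hinv x))
        (fun θ h => ?_)
      rw [(hpow t htp θ h).2]
      show _ = _ * (θ ((1 : K) ^ t) - θ ((⟨z, hZK hz⟩ : K) ^ t))
      rw [one_pow, show (⟨z, hZK hz⟩ : K) ^ t = ⟨z', hZK hz'⟩ from
        Subtype.ext (by simpa using congrArg Subtype.val ht)]
    show f ((⟨z, hZK hz⟩ : K) : L) = f ((⟨z', hZK hz'⟩ : K) : L)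
    linear_combination e2 - e1 + e3
  obtain ⟨z₀, hz₀, hz₀1⟩ := Z.bot_or_exists_ne_one.resolve_left fun h => by
    rw [h, Subgroup.card_bot] at hcard
    exact hp.ne_one hcard.symm
  obtain ⟨j, hj⟩ := D.congr hconst z₀ hz₀ hz₀1
  -- sum over `Z`
  have hsumZ : ∀ θ ∈ offZ K Z, ∑ z : Z', (θ 1 - θ (z : K)) = (p : ℂ) * θ 1 := by
    intro θ hθ
    obtain ⟨hi, z₁, hz₁, hne⟩ := mem_offZ.1 hθ
    have hcen : ∀ z : Z', (z : K) ∈ Subgroup.center K := fun z => Subgroup.mem_center_iff.2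
      fun k => Subtype.ext (hZc _ (Subgroup.mem_subgroupOf.1 z.2) k k.2).symm
    let ω : Z' →* ℂ := (Chars82.PGroupChars.omegaZ ⟨θ, hi⟩).comp
      { toFun := fun z => ⟨(z : K), hcen z⟩, map_one' := rfl, map_mul' := fun _ _ => rfl }
    have hω : ∀ z : Z', θ (z : K) = ω z * θ 1 := fun z =>
      Chars82.PGroupChars.apply_center ⟨θ, hi⟩ ⟨(z : K), hcen z⟩
    have hω1 : ω ≠ 1 := fun h => hne (by
      have := hω ⟨z₁, Subgroup.mem_subgroupOf.2 hz₁⟩
      rwa [h, MonoidHom.one_apply, one_mul] at this)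
    rw [Finset.sum_sub_distrib, Finset.sum_congr rfl fun z _ => hω z, ← Finset.sum_mul,
      sum_hom_units_eq_zero ω hω1, zero_mul, sub_zero, Finset.sum_const, Finset.card_univ,
      ← Nat.card_eq_fintype_card, hcardZ', nsmul_eq_mul]
  set W := ∑ θ ∈ offZ K Z, Cfsg.classInner g θ * θ 1 with hW
  have hWeq : (p : ℂ) * W = ((p : ℂ) - 1) * ((j : ℂ) * (Nat.card K : ℂ)) := by
    have h1 : ∑ z : Z', (f 1 - f ((z : K) : L)) = (p : ℂ) * W := by
      rw [Finset.sum_congr rfl fun (z : Z') _ => b.f_sub D hZK' (Subgroup.mem_subgroupOf.1 z.2),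
        Finset.sum_comm, hW, Finset.mul_sum]
      refine Finset.sum_congr rfl fun θ hθ => ?_
      rw [← Finset.mul_sum, hsumZ θ hθ]
      ring
    have h2 : ∑ z : Z', (f 1 - f ((z : K) : L)) = ((p : ℂ) - 1) * ((j : ℂ) * (Nat.card K : ℂ)) := by
      rw [← Finset.add_sum_erase _ _ (Finset.mem_univ (1 : Z')), OneMemClass.coe_one,
        OneMemClass.coe_one, sub_self, zero_add,
        Finset.sum_congr rfl (g := fun _ : Z' => (j : ℂ) * (Nat.card K : ℂ)) fun z hz => ?_,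
        Finset.sum_const, Finset.card_erase_of_mem (Finset.mem_univ _), Finset.card_univ,
        ← Nat.card_eq_fintype_card, hcardZ', nsmul_eq_mul, Nat.cast_sub hp.one_lt.le, Nat.cast_one]
      have hzne : ((z : K) : L) ≠ 1 := fun h =>
        Finset.ne_of_mem_erase hz (Subtype.ext (Subtype.ext h))
      rw [hconst _ (Subgroup.mem_subgroupOf.1 z.2) z₀ hz₀ hzne hz₀1, hj]
    rw [← h1, h2]
  set r := Z.relIndex K with hr
  have hKr : (Nat.card K : ℂ) = (p : ℂ) * r := by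
    have h : Nat.card Z' * r = Nat.card K := Subgroup.card_mul_index Z'
    rw [hcardZ'] at h
    rw [← h, Nat.cast_mul]
  have hp0 : (p : ℂ) ≠ 0 := Nat.cast_ne_zero.2 hp.ne_zero
  obtain ⟨v, hv⟩ := D.int
  set i := j - v + 1 with hi
  have hA : ∑ θ ∈ offZ K Z, coef K τ T₀ ζ (Cfsg.indFun K θ) * θ 1 =
      ((p : ℂ) - 1) * r * (i : ℂ) := by
    have h1 : W = ∑ θ ∈ offZ K Z, coef K τ T₀ ζ (Cfsg.indFun K θ) * θ 1 +
        ((v : ℂ) - 1) * ((Nat.card K : ℂ) - (r : ℂ)) := by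
      rw [hW, hr, ← sum_offZ hZK, Finset.mul_sum, ← Finset.sum_add_distrib]
      refine Finset.sum_congr rfl fun θ hθ => ?_
      rw [b.inner_f D hZK' hθ, hv]
      ring
    have h2 : W = ((p : ℂ) - 1) * ((j : ℂ) * r) := by
      apply mul_left_cancel₀ hp0
      rw [hWeq, hKr]; ring
    rw [hKr] at h1
    rw [hi]
    push_cast
    linear_combination h2 - h1
  -- bounds
  have hdata : ∀ θ, ∃ a d : ℕ, θ ∈ offZ K Z → coef K τ T₀ ζ (Cfsg.indFun K θ) = a ∧
      θ 1 = d ∧ a * (lin K).card ≤ 2 * d ∧ 0 < d := fun θ => by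
    by_cases hθ : θ ∈ offZ K Z
    · have hS₀ := offS_subset (Finset.mem_coe.2 (Finset.mem_image_of_mem (Cfsg.indFun K) hθ))
      obtain ⟨a, d, ha, hd, hle⟩ := b.coef_bound hS₀ (b.not_lin D hZK' hθ)
      rw [b.dg_ind D hZK' (offZ_theta hθ)] at hd
      refine ⟨a, d, fun _ => ⟨ha, hd, hle, Nat.pos_of_ne_zero fun h => ?_⟩⟩
      exact Characters.Basic.apply_one_ne_zero ⟨θ, (mem_offZ.1 hθ).1⟩
        (show θ 1 = 0 by rw [hd, h, Nat.cast_zero])
    · exact ⟨0, 0, fun h => absurd h hθ⟩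
  choose a d hdata using hdata
  set A := ∑ θ ∈ offZ K Z, a θ * d θ with hAdef
  set D2 := ∑ θ ∈ offZ K Z, d θ * d θ with hD2
  have hA' : ((A : ℤ) : ℂ) = (((p : ℤ) - 1) * r * i : ℤ) := by
    push_cast [hAdef]
    rw [← hA]
    exact Finset.sum_congr rfl fun θ hθ => by rw [(hdata θ hθ).1, (hdata θ hθ).2.1]
  have hA'' : (A : ℤ) = ((p : ℤ) - 1) * r * i := by exact_mod_cast hA'
  have hD' : (D2 : ℤ) = ((p : ℤ) - 1) * r := by
    have h := sum_offZ (K := K) hZK
    rw [Finset.sum_congr rfl fun θ hθ => by rw [(hdata θ hθ).2.1], hKr] at h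
    have h' : ((D2 : ℤ) : ℂ) = ((((p : ℤ) - 1) * r : ℤ) : ℂ) := by
      push_cast [hD2]
      linear_combination h
    exact_mod_cast h'
  have hpos : (0 : ℤ) < ((p : ℤ) - 1) * r :=
    mul_pos (by have := hp.two_le; omega)
      (by exact_mod_cast Nat.pos_of_ne_zero Subgroup.index_ne_zero_of_finite)
  have hAD : A * (lin K).card ≤ 2 * D2 := by
    rw [hAdef, hD2, Finset.sum_mul, Finset.mul_sum]
    refine Finset.sum_le_sum fun θ hθ => ?_
    calc a θ * d θ * (lin K).card = (a θ * (lin K).card) * d θ := by ring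
      _ ≤ 2 * d θ * d θ := Nat.mul_le_mul_right _ (hdata θ hθ).2.2.1
      _ = 2 * (d θ * d θ) := by ring
  have hi0 : 0 ≤ i := nonneg_of_mul_nonneg_right (by rw [← hA'']; positivity) hpos
  have hiN : i * (lin K).card ≤ 2 := by
    have : (A : ℤ) * (lin K).card ≤ 2 * D2 := by exact_mod_cast hAD
    rw [hA'', hD'] at this
    exact le_of_mul_le_mul_left (by linarith) hpos
  have hN : (2 : ℤ) ≤ (lin K).card := by exact_mod_cast b.card_two_le
  have hi1 : i ≤ 1 := by nlinarith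
  rcases (show i = 0 ∨ i = 1 by omega) with h | h
  · refine Or.inl fun χ hχ => ?_
    obtain ⟨θ, hθ, rfl⟩ := Finset.mem_image.1 hχ
    rw [h, mul_zero, Int.natCast_eq_zero, Finset.sum_eq_zero_iff] at hA''
    have ha0 : a θ = 0 := (Nat.mul_eq_zero.1 (hA'' θ hθ)).resolve_right (hdata θ hθ).2.2.2.ne'
    rw [(hdata θ hθ).1, ha0, Nat.cast_zero]
  · have hN2 : (lin K).card = 2 := by rw [h, one_mul] at hiN; omega
    refine Or.inr ⟨hN2, fun χ hχ => ?_⟩
    obtain ⟨θ, hθ, rfl⟩ := Finset.mem_image.1 hχ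
    rw [h, mul_one, ← hD', Int.natCast_inj] at hA''
    have hle : ∀ θ' ∈ offZ K Z, a θ' * d θ' ≤ d θ' * d θ' := fun θ' hθ' =>
      Nat.mul_le_mul_right _ (by have := (hdata θ' hθ').2.2.1; rw [hN2] at this; omega)
    have heq := (Finset.sum_eq_sum_iff_of_le hle).1 hA'' θ hθ
    rw [(hdata θ hθ).1, Nat.eq_of_mul_eq_mul_right (hdata θ hθ).2.2.2 heq,
      b.dg_ind D hZK' (offZ_theta hθ), (hdata θ hθ).2.1]

end Base

/-- Adjoining `S(Z)`. -/
theorem coherent_all (b : Base K τ R T₀ ζ) (hZK' : Z ≤ ⁅K, K⁆)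
    (hcoh : Cfsg.IsCoherent (↑(lin K ∪ offS K Z) : Set (L → ℂ)) {1}ᶜ τ)
    (hZ3 : 3 ≤ Nat.card Z)
    (hsize : 2 * K.index + 1 ≤ Nat.card Z ∨ K.index ^ 2 ≤ Z.relIndex K)
    (hbig : 1 < (⁅K, K⁆).relIndex K) :
    Cfsg.IsCoherent (Cfsg.inducedIrrAbove K ⊥) {1}ᶜ τ := by
  have hZK : Z ≤ K := hZK'.trans (Subgroup.commutator_le_self K)
  have hdn : ∀ φ, ∃ d n : ℕ, φ ∈ Cfsg.inducedIrrAbove K ⊥ →
      φ 1 = (d : ℂ) ∧ Cfsg.classInner φ φ = (n : ℂ) := fun φ => by
    by_cases h : φ ∈ Cfsg.inducedIrrAbove K ⊥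
    · obtain ⟨m, -, -, hm⟩ := exists_dg h
      obtain ⟨n, -, hn, -, -⟩ := sys_norm b.sys h
      exact ⟨K.index * m, n, fun _ => ⟨by rw [hm]; push_cast; ring, hn⟩⟩
    · exact ⟨0, 0, fun h' => absurd h' h⟩
  choose d n hdn using hdn
  set S₁ := lin K ∪ offS K Z with hS₁
  have hsub : (↑S₁ : Set (L → ℂ)) ⊆ Cfsg.inducedIrrAbove K ⊥ := fun φ hφ => by
    rcases Finset.mem_union.1 (Finset.mem_coe.1 hφ) with h | h
    · exact mem_S h
    · exact offS_subset (Finset.mem_coe.2 h)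
  have hconj : ∀ φ ∈ S₁, Cfsg.conjFun φ ∈ S₁ := fun φ hφ => by
    rcases Finset.mem_union.1 hφ with h | h
    · exact Finset.mem_union_left _ (InducedSystem.conj_mem K h)
    · exact Finset.mem_union_right _ (offS_conj h)
  have hdz : d ζ = K.index := by
    exact_mod_cast (hdn ζ b.zeta_S).1.symm.trans (b.degree ζ b.zeta)
  have hext := Iterate.extend_many_norm b.sys d n (fun φ h => (hdn φ h).1) (fun φ h => (hdn φ h).2)
    S₁ hsub hconj hcoh (Finset.mem_union_left _ b.zeta) (above K ⊥)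
    (fun φ h => mem_S (Finset.mem_coe.1 h)) (fun φ h => InducedSystem.conj_mem K h) ?_
  · rwa [show S₁ ∪ above K ⊥ = above K ⊥ from Finset.union_eq_right.2 fun φ h => by
      rw [← Finset.mem_coe, coe_above]; exact hsub (Finset.mem_coe.2 h), coe_above] at hext
  intro φ hφ hφ₁
  obtain ⟨θ, hθ, rfl⟩ := Finset.mem_image.1 hφ
  obtain ⟨hi, hne, -⟩ := (mem_theta K).1 hθ
  obtain ⟨m, hm0, hθ1, hφ1⟩ := InducedSystem.indFun_one K hθ
  have hdφ : d (Cfsg.indFun K θ) = K.index * m := by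
    exact_mod_cast (hdn _ (mem_S hφ)).1.symm.trans hφ1
  refine ⟨hdz ▸ hdφ ▸ dvd_mul_right _ _, ?_⟩
  -- `θ` is trivial on `Z`
  have htriv : ∀ a : K, (a : L) ∈ Z → θ a = θ 1 := by
    by_contra hcon
    push Not at hcon
    obtain ⟨a, ha, hne'⟩ := hcon
    exact hφ₁ (Finset.mem_union_right _ (Finset.mem_image_of_mem _ (mem_offZ.2 ⟨hi, a, ha, hne'⟩)))
  have hmr : m ^ 2 ≤ Z.relIndex K := by
    have h := Inflate.sum_sq_trivOn (Z.subgroupOf K)
    have hmem : θ ∈ Inflate.trivOn (Z.subgroupOf K) :=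
      Inflate.mem_trivOn.2 ⟨hi, fun a ha => htriv a (Subgroup.mem_subgroupOf.1 ha)⟩
    have hdeg : ∀ χ, ∃ c : ℕ, χ ∈ Inflate.trivOn (Z.subgroupOf K) → χ 1 = (c : ℂ) := fun χ => by
      by_cases h : χ ∈ Inflate.trivOn (Z.subgroupOf K)
      · obtain ⟨c, hc⟩ := Characters.Basic.exists_degree
          (Characters.Basic.IsCharacter_of_isIrrCharacter (Inflate.mem_trivOn.1 h).1)
        exact ⟨c, fun _ => hc⟩
      · exact ⟨0, fun h' => absurd h' h⟩
    choose c hc using hdeg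
    rw [Finset.sum_congr rfl fun χ hχ => by rw [hc χ hχ]] at h
    have h' : ∑ χ ∈ Inflate.trivOn (Z.subgroupOf K), c χ * c χ = Z.relIndex K := by
      exact_mod_cast h
    have hcm : c θ = m := by exact_mod_cast (hc θ hmem).symm.trans hθ1
    rw [← h', sq, ← hcm]
    exact Finset.single_le_sum (f := fun χ => c χ * c χ) (fun χ _ => Nat.zero_le _) hmem
  have hsum : (K.index : ℝ) * (((⁅K, K⁆).relIndex K : ℝ) - 1) +
      (K.index : ℝ) * ((Nat.card K : ℝ) - (Z.relIndex K : ℝ)) ≤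
        ∑ ξ ∈ S₁, ((d ξ : ℝ) ^ 2 / (n ξ : ℝ)) := by
    have e0 := InducedSystem.sum_sq_norm K b.sys subset_rfl ⁅K, K⁆
      (Subgroup.commutator_le_self K) d n (fun φ h => (hdn φ (mem_S h)).1)
      (fun φ h => (hdn φ (mem_S h)).2)
    have e1 := InducedSystem.sum_sq_norm K b.sys subset_rfl ⊥ bot_le d n
      (fun φ h => (hdn φ (mem_S h)).1) (fun φ h => (hdn φ (mem_S h)).2)
    have e2 := InducedSystem.sum_sq_norm K b.sys subset_rfl Z hZK d n
      (fun φ h => (hdn φ (mem_S h)).1) (fun φ h => (hdn φ (mem_S h)).2)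
    have hle : ∑ ξ ∈ above K ⊥, ((d ξ : ℝ) ^ 2 / (n ξ : ℝ)) ≤
        ∑ ξ ∈ above K Z ∪ offS K Z, ((d ξ : ℝ) ^ 2 / (n ξ : ℝ)) := by
      refine Finset.sum_le_sum_of_subset_of_nonneg (fun ψ hψ => ?_) (fun ψ _ _ => by positivity)
      obtain ⟨θ', hθ', rfl⟩ := Finset.mem_image.1 hψ
      by_cases ht : ∀ a : K, (a : L) ∈ Z → θ' a = θ' 1
      · exact Finset.mem_union_left _ (Finset.mem_image_of_mem _ ((mem_theta K).2
          ⟨((mem_theta K).1 hθ').1, ((mem_theta K).1 hθ').2.1, ht⟩))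
      · push Not at ht
        obtain ⟨a, ha, hne'⟩ := ht
        exact Finset.mem_union_right _ (Finset.mem_image_of_mem _
          (mem_offZ.2 ⟨((mem_theta K).1 hθ').1, a, ha, hne'⟩))
    rw [Finset.sum_union (Finset.disjoint_right.2 fun ψ h => offS_not_above le_rfl b.sys h), e1, e2,
      Subgroup.relIndex_bot_left] at hle
    rw [hS₁, Finset.sum_union (Finset.disjoint_right.2 fun ψ h => offS_not_above hZK' b.sys h), e0]
    linarith
  refine lt_of_lt_of_le ?_ hsum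
  rw [hdφ, hdz]
  have hcard : Nat.card K = Nat.card Z * Z.relIndex K := by
    rw [← Subgroup.card_mul_index (Z.subgroupOf K),
      Nat.card_congr (Subgroup.subgroupOfEquivOfLe hZK).toEquiv]
    rfl
  rw [hcard]
  push_cast
  have hq1 : (0 : ℝ) < (K.index : ℝ) := by
    exact_mod_cast Nat.pos_of_ne_zero (Subgroup.index_ne_zero_of_finite (H := K))
  have hr1 : (1 : ℝ) ≤ (Z.relIndex K : ℝ) := by
    have : 0 < Z.relIndex K :=
      Nat.pos_of_ne_zero (Subgroup.index_ne_zero_of_finite (H := Z.subgroupOf K))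
    exact_mod_cast this
  have hm1 : (1 : ℝ) ≤ m := by exact_mod_cast hm0
  have hmr' : (m : ℝ) ^ 2 ≤ (Z.relIndex K : ℝ) := by exact_mod_cast hmr
  have hsize' : 2 * (K.index : ℝ) + 1 ≤ (Nat.card Z : ℝ) ∨
      (K.index : ℝ) ^ 2 ≤ (Z.relIndex K : ℝ) :=
    hsize.imp (fun h => by exact_mod_cast h) (fun h => by exact_mod_cast h)
  set q : ℝ := (K.index : ℝ) with hq
  set r : ℝ := (Z.relIndex K : ℝ) with hr
  clear_value q r
  have hz3 : (3 : ℝ) ≤ Nat.card Z := by exact_mod_cast hZ3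
  have hb : (2 : ℝ) ≤ (⁅K, K⁆).relIndex K := by exact_mod_cast hbig
  have key : 2 * q * m ≤ r * ((Nat.card Z : ℝ) - 1) := by
    rcases hsize' with h' | h'
    · nlinarith [mul_le_mul_of_nonneg_left (show (m : ℝ) ≤ r by nlinarith) hq1.le]
    · have hqm : q * m ≤ r := by nlinarith [sq_nonneg (q - m)]
      nlinarith
  nlinarith

end Cfsg.Agent.Lib.OddOrder.PF10.Sibley
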