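import Cfsg.Agent.Lib.Isometry.InducedSystem
import Cfsg.Agent.Lib.Isometry.EqualDegree
import Cfsg.Agent.Lib.Isometry.Criterion
import Cfsg.Agent.Lib.Isometry.Iterate

/-!
# Coherence: glueing a set of characters to the linear layer

`K ◁ L`, a coherence system on `S = inducedIrrAbove K ⊥`, and `Y = S(K')`, all of whose members are
irreducible of degree `q = |L : K|`, with a linear isometry `T₀` extending `τ` and a chosen `ζ ∈ Y`.

For `χ ∈ S` outside `Y` of degree `q d`, the coefficient of `τ (χ - d ζ)` on `T₀ η` is `a - d δ_{ηζ}`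
with an integer `a = coef χ`; it satisfies `0 ≤ a` and `a |Y| ≤ 2 d` and depends only on the degree
of `χ`.  If it vanishes on a conjugation-closed set `X` outside `Y`, then `Y ∪ X` is coherent; if
`|Y| = 2` and it equals the degree on `X`, the same holds after replacing `T₀`.

Owner: helper43.
-/

set_option autoImplicit false
set_option linter.style.haveILetI false
set_option linter.unusedSectionVars false

namespace Cfsg.Agent.Lib.OddOrder.PF10.Sibley

open scoped ComplexConjugate Classical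
open Cfsg.Agent.Lib
open Cfsg.Agent.Lib.Isometry Cfsg.Agent.Lib.Isometry.Inner Cfsg.Agent.Lib.Isometry.Coherence
open Cfsg.Agent.Lib.Isometry.InducedSystem (above theta mem_theta coe_above above_anti)
open Cfsg.Agent.Lib.Induced.Basic (classInner_add_left classInner_add_right classInner_sub_left
  classInner_sub_right classInner_smul_left classInner_smul_right classInner_conj_symm)
open Cfsg.Agent.Lib.Characters.Basic (classInner_sum_left classInner_sum_right)

universe u v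

variable {L : Type u} [Group L] [Fintype L] {G : Type v} [Group G] [Fintype G]
  {K : Subgroup L} [hK : K.Normal]
  {τ : (L → ℂ) → (G → ℂ)} {R : (L → ℂ) → Finset (G → ℂ)}
  {T₀ : (L → ℂ) → (G → ℂ)} {ζ : L → ℂ}

/-- The linear layer `S(K')`. -/
noncomputable abbrev lin (K : Subgroup L) : Finset (L → ℂ) := above K ⁅K, K⁆

/-- The degree divided by the index of `K`. -/
noncomputable def dg (K : Subgroup L) (χ : L → ℂ) : ℂ := χ 1 / (K.index : ℂ)

/-- What the glueing needs. -/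
structure Base (K : Subgroup L) (τ : (L → ℂ) → (G → ℂ)) (R : (L → ℂ) → Finset (G → ℂ))
    (T₀ : (L → ℂ) → (G → ℂ)) (ζ : L → ℂ) : Prop where
  sys : Cfsg.IsCoherenceSystem (Cfsg.inducedIrrAbove K ⊥) τ R
  iso : Cfsg.IsLinearIsometryOn (Cfsg.zspan (↑(lin K) : Set (L → ℂ))) T₀
  agree : ∀ α ∈ Cfsg.zspanOn (↑(lin K) : Set (L → ℂ)) {1}ᶜ, T₀ α = τ α
  zeta : ζ ∈ lin K
  norm : ∀ η ∈ lin K, Cfsg.classInner η η = 1
  degree : ∀ η ∈ lin K, η 1 = (K.index : ℂ)

theorem index_ne_zero (K : Subgroup L) : (K.index : ℂ) ≠ 0 :=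
  Nat.cast_ne_zero.2 Subgroup.index_ne_zero_of_finite

omit hK in
theorem mem_S {A : Subgroup L} {χ : L → ℂ} (h : χ ∈ above K A) :
    χ ∈ Cfsg.inducedIrrAbove K ⊥ := by
  rw [← coe_above]
  exact Finset.mem_coe.2 (above_anti K bot_le h)

/-- The degree of a member of `S` is a positive multiple of the index. -/
theorem exists_dg {χ : L → ℂ} (h : χ ∈ Cfsg.inducedIrrAbove K ⊥) :
    ∃ m : ℕ, 0 < m ∧ dg K χ = (m : ℂ) ∧ χ 1 = (K.index : ℂ) * m := by
  rw [← coe_above] at h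
  obtain ⟨θ, hθ, rfl⟩ := Finset.mem_image.1 (Finset.mem_coe.1 h)
  obtain ⟨m, hm, -, h1⟩ := InducedSystem.indFun_one K hθ
  refine ⟨m, hm, ?_, by rw [h1]; push_cast; ring⟩
  rw [dg, h1]
  push_cast
  rw [mul_div_assoc, mul_comm, div_mul_cancel₀ _ (index_ne_zero K)]

theorem dg_conj {χ : L → ℂ} (h : χ ∈ Cfsg.inducedIrrAbove K ⊥)
    (hS : Cfsg.IsCoherenceSystem (Cfsg.inducedIrrAbove K ⊥) τ R) :
    dg K (Cfsg.conjFun χ) = dg K χ := by rw [dg, sys_conj_one hS h, dg]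

/-- The coefficient attached to `χ`. -/
noncomputable def coef (K : Subgroup L) (τ T₀ : (L → ℂ) → (G → ℂ)) (ζ χ : L → ℂ) : ℂ :=
  Cfsg.classInner (τ (χ - dg K χ • ζ)) (T₀ ζ) + dg K χ

namespace Base

variable (b : Base K τ R T₀ ζ)

include b

theorem zeta_S : ζ ∈ Cfsg.inducedIrrAbove K ⊥ := mem_S b.zeta

theorem dg_lin {η : L → ℂ} (h : η ∈ lin K) : dg K η = 1 := by
  rw [dg, b.degree η h, div_self (index_ne_zero K)]

theorem T_gen {η : L → ℂ} (h : η ∈ lin K) : Cfsg.IsGeneralizedCharacter G (T₀ η) :=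
  b.iso.2.2.2 _ (subset_zspan _ (Finset.mem_coe.2 h))

theorem T_inner {η η' : L → ℂ} (h : η ∈ lin K) (h' : η' ∈ lin K) :
    Cfsg.classInner (T₀ η) (T₀ η') = if η = η' then 1 else 0 := by
  rw [b.iso.2.2.1 _ (subset_zspan _ (Finset.mem_coe.2 h)) _ (subset_zspan _ (Finset.mem_coe.2 h'))]
  split_ifs with e
  · subst e; exact b.norm η h
  · exact b.sys.orthogonal η (mem_S h) η' (mem_S h') e

theorem lin_diff {η η' : L → ℂ} (h : η ∈ lin K) (h' : η' ∈ lin K) :
    η - η' ∈ Cfsg.zspanOn (↑(lin K) : Set (L → ℂ)) {1}ᶜ :=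
  mem_zspanOn_one.2 ⟨zspan_sub (subset_zspan _ (Finset.mem_coe.2 h))
    (subset_zspan _ (Finset.mem_coe.2 h')), by rw [Pi.sub_apply, b.degree η h, b.degree η' h', sub_self]⟩

theorem T_sub {η η' : L → ℂ} (h : η ∈ lin K) (h' : η' ∈ lin K) :
    T₀ η - T₀ η' = τ (η - η') := by
  rw [← b.agree _ (b.lin_diff h h'), Criterion.span_iso_sub b.iso (subset_zspan _ (Finset.mem_coe.2 h))
    (subset_zspan _ (Finset.mem_coe.2 h'))]

theorem card_two_le : 2 ≤ (lin K).card := by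
  have h := InducedSystem.conj_mem K b.zeta
  have hne := b.sys.conj_ne ζ b.zeta_S
  calc 2 = ({ζ, Cfsg.conjFun ζ} : Finset (L → ℂ)).card := (Finset.card_pair hne.symm).symm
    _ ≤ (lin K).card := Finset.card_le_card fun x hx => by
        rcases Finset.mem_insert.1 hx with rfl | hx
        · exact b.zeta
        · rwa [Finset.mem_singleton.1 hx]

theorem phi_mem {χ : L → ℂ} (h : χ ∈ Cfsg.inducedIrrAbove K ⊥) :
    χ - dg K χ • ζ ∈ Cfsg.zspanOn (Cfsg.inducedIrrAbove K ⊥) {1}ᶜ := by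
  obtain ⟨m, -, hm, h1⟩ := exists_dg h
  refine mem_zspanOn_one.2 ⟨zspan_sub (subset_zspan _ h) ?_, ?_⟩
  · rw [hm, ← Int.cast_natCast]
    exact zspan_smul _ (subset_zspan _ b.zeta_S)
  · rw [Pi.sub_apply, Pi.smul_apply, hm, h1, b.degree ζ b.zeta, smul_eq_mul, mul_comm, sub_self]

theorem phi_gen {χ : L → ℂ} (h : χ ∈ Cfsg.inducedIrrAbove K ⊥) :
    Cfsg.IsGeneralizedCharacter G (τ (χ - dg K χ • ζ)) :=
  b.sys.isometry.2.2.2 _ (b.phi_mem h)

/-- Inner products of the basic differences. -/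
theorem phi_phi {χ χ' : L → ℂ} (h : χ ∈ Cfsg.inducedIrrAbove K ⊥) (hY : χ ∉ lin K)
    (h' : χ' ∈ Cfsg.inducedIrrAbove K ⊥) (hY' : χ' ∉ lin K) :
    Cfsg.classInner (τ (χ - dg K χ • ζ)) (τ (χ' - dg K χ' • ζ)) =
      Cfsg.classInner χ χ' + dg K χ * dg K χ' := by
  obtain ⟨m', -, hm', -⟩ := exists_dg h'
  rw [b.sys.isometry.2.2.1 _ (b.phi_mem h) _ (b.phi_mem h'), classInner_sub_left,
    classInner_sub_right, classInner_sub_right, classInner_smul_left, classInner_smul_left,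
    classInner_smul_right, classInner_smul_right,
    b.sys.orthogonal χ h ζ b.zeta_S (fun e => hY (e ▸ b.zeta)),
    b.sys.orthogonal ζ b.zeta_S χ' h' (fun e => hY' (e ▸ b.zeta)), b.norm ζ b.zeta, hm', map_natCast]
  ring

/-- The coefficients of `τ (χ - d ζ)` on the images of the linear layer. -/
theorem inner_T {χ η : L → ℂ} (h : χ ∈ Cfsg.inducedIrrAbove K ⊥) (hY : χ ∉ lin K)
    (hη : η ∈ lin K) :
    Cfsg.classInner (τ (χ - dg K χ • ζ)) (T₀ η) =
      coef K τ T₀ ζ χ - if η = ζ then dg K χ else 0 := by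
  by_cases e : η = ζ
  · subst e; rw [if_pos rfl, coef, add_sub_cancel_right]
  rw [if_neg e, sub_zero]
  have h1 : Cfsg.classInner (τ (χ - dg K χ • ζ)) (T₀ η - T₀ ζ) = dg K χ := by
    rw [b.T_sub hη b.zeta, b.sys.isometry.2.2.1 _ (b.phi_mem h) _
      (zspanOn_mono _ (fun x hx => mem_S (Finset.mem_coe.1 hx)) (b.lin_diff hη b.zeta)),
      classInner_sub_left, classInner_sub_right, classInner_sub_right, classInner_smul_left,
      classInner_smul_left, b.sys.orthogonal χ h η (mem_S hη) (fun e' => hY (e' ▸ hη)),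
      b.sys.orthogonal χ h ζ b.zeta_S (fun e' => hY (e' ▸ b.zeta)),
      b.sys.orthogonal ζ b.zeta_S η (mem_S hη) (Ne.symm e), b.norm ζ b.zeta]
    ring
  rw [classInner_sub_right] at h1
  rw [coef]
  linear_combination h1

theorem coef_int {χ : L → ℂ} (h : χ ∈ Cfsg.inducedIrrAbove K ⊥) :
    ∃ a : ℤ, coef K τ T₀ ζ χ = (a : ℂ) := by
  obtain ⟨k, hk⟩ := classInner_gen_int (b.phi_gen h) (b.T_gen b.zeta)
  obtain ⟨m, -, hm, -⟩ := exists_dg h
  exact ⟨k + m, by rw [coef, hk, hm]; push_cast; ring⟩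

/-- `R χ` is orthogonal to the images of the linear layer. -/
theorem R_orth {χ η : L → ℂ} (h : χ ∈ Cfsg.inducedIrrAbove K ⊥) (hY : χ ∉ lin K) (hη : η ∈ lin K)
    {r : G → ℂ} (hr : r ∈ R χ) : Cfsg.classInner (T₀ η) r = 0 := by
  obtain ⟨x, hx⟩ := Criterion.image_mem b.sys (fun y hy => mem_S (Finset.mem_coe.1 hy)) b.iso
    b.agree (Finset.mem_coe.2 hη) (Finset.mem_coe.2 (InducedSystem.conj_mem K hη))
  rw [hx, classInner_sum_left]
  refine Finset.sum_eq_zero fun s hs => ?_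
  rw [classInner_smul_left, sys_disjoint b.sys h (mem_S hη) (fun e => hY (e ▸ hη))
    (fun e => hY (by rw [← conjFun_conjFun χ, ← e]; exact InducedSystem.conj_mem K hη)) s hs r hr,
    mul_zero]

/-- The coefficient is a natural number at most `2 d / |Y|`. -/
theorem coef_bound {χ : L → ℂ} (h : χ ∈ Cfsg.inducedIrrAbove K ⊥) (hY : χ ∉ lin K) :
    ∃ a m : ℕ, coef K τ T₀ ζ χ = (a : ℂ) ∧ dg K χ = (m : ℂ) ∧ a * (lin K).card ≤ 2 * m := by
  obtain ⟨a, ha⟩ := b.coef_int h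
  obtain ⟨m, hm0, hm, -⟩ := exists_dg h
  obtain ⟨n, -, hn, -, -⟩ := sys_norm b.sys h
  set Φ := τ (χ - dg K χ • ζ) with hΦ
  set sT := ∑ η ∈ lin K, T₀ η with hsum
  set V := Φ + ((m : ℤ) : ℂ) • T₀ ζ - ((a : ℤ) : ℂ) • sT with hV
  have hVgen : Cfsg.IsGeneralizedCharacter G V :=
    gen_sub (gen_add (b.phi_gen h) (gen_intCast_smul (b.T_gen b.zeta) _))
      (gen_intCast_smul (gen_sum _ fun η hη => b.T_gen hη) _)
  have hTS : ∀ η ∈ lin K, Cfsg.classInner (T₀ η) sT = 1 := fun η hη => by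
    rw [hsum, classInner_sum_right, Finset.sum_congr rfl fun η' hη' => b.T_inner hη hη',
      Finset.sum_ite_eq, if_pos hη]
  have hPS : Cfsg.classInner Φ sT = (a : ℂ) * (lin K).card - (m : ℂ) := by
    rw [hsum, classInner_sum_right, Finset.sum_congr rfl fun η hη => b.inner_T h hY hη,
      Finset.sum_sub_distrib, Finset.sum_const, Finset.sum_ite_eq', if_pos b.zeta, ha, hm,
      nsmul_eq_mul, mul_comm]
  have hPz : Cfsg.classInner Φ (T₀ ζ) = (a : ℂ) - (m : ℂ) := by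
    rw [b.inner_T h hY b.zeta, if_pos rfl, ha, hm]
  have hSS : Cfsg.classInner sT sT = ((lin K).card : ℂ) := by
    nth_rewrite 1 [hsum]
    rw [classInner_sum_left, Finset.sum_congr rfl hTS, Finset.sum_const, nsmul_eq_mul, mul_one]
  have hzz : Cfsg.classInner (T₀ ζ) (T₀ ζ) = 1 := by rw [b.T_inner b.zeta b.zeta, if_pos rfl]
  have hPP : Cfsg.classInner Φ Φ = (n : ℂ) + (m : ℂ) * m := by
    rw [hΦ, b.phi_phi h hY h hY, hn, hm]
  have hzP : Cfsg.classInner (T₀ ζ) Φ = (a : ℂ) - (m : ℂ) := by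
    rw [classInner_gen_comm (b.T_gen b.zeta) (b.phi_gen h), hPz]
  have hSP : Cfsg.classInner sT Φ = (a : ℂ) * (lin K).card - (m : ℂ) := by
    rw [classInner_gen_comm (gen_sum _ fun η hη => b.T_gen hη) (b.phi_gen h), hPS]
  have hSz : Cfsg.classInner sT (T₀ ζ) = 1 := by
    rw [classInner_gen_comm (gen_sum _ fun η hη => b.T_gen hη) (b.T_gen b.zeta), hTS ζ b.zeta]
  have hVV : Cfsg.classInner V V =
      (((n : ℤ) + a * (2 * m - a * (lin K).card) : ℤ) : ℂ) := by
    simp only [hV, classInner_sub_left, classInner_sub_right, classInner_add_left,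
      classInner_add_right, classInner_smul_left, classInner_smul_right, map_intCast, hPP, hPz,
      hPS, hzP, hzz, hTS ζ b.zeta, hSP, hSz, hSS]
    push_cast
    ring
  have hperp : ∀ η ∈ lin K, Cfsg.classInner (T₀ η) (τ (χ - Cfsg.conjFun χ)) = 0 := fun η hη => by
    rw [b.sys.sum_eq χ h, classInner_sum_right]
    exact Finset.sum_eq_zero fun r hr => b.R_orth h hY hη hr
  have hin : Cfsg.classInner V (τ (χ - Cfsg.conjFun χ)) = (n : ℂ) := by
    rw [hV, classInner_sub_left, classInner_add_left, classInner_smul_left, classInner_smul_left,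
      hperp ζ b.zeta, hsum, classInner_sum_left, Finset.sum_eq_zero hperp, hΦ,
      b.sys.isometry.2.2.1 _ (b.phi_mem h) _ (sys_diff_mem b.sys h), classInner_sub_left,
      classInner_sub_right, classInner_sub_right, classInner_smul_left, classInner_smul_left, hn,
      sys_orth_conj b.sys h, b.sys.orthogonal ζ b.zeta_S χ h (fun e => hY (e ▸ b.zeta)),
      b.sys.orthogonal ζ b.zeta_S _ (b.sys.conj_mem χ h)
        (fun e => hY (by rw [← conjFun_conjFun χ, ← e]; exact InducedSystem.conj_mem K b.zeta))]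
    ring
  obtain ⟨x, -, hge, -, hres⟩ := sys_project b.sys h hVgen hin
  have hnn := classInner_self_re_nonneg (V - ∑ r ∈ R χ, (x r : ℂ) • r)
  rw [hres, hVV, ← Int.cast_sub, Complex.intCast_re] at hnn
  have hnn' : (0 : ℤ) ≤ (n : ℤ) + a * (2 * m - a * (lin K).card) - ∑ r ∈ R χ, x r ^ 2 :=
    Int.cast_nonneg_iff.1 hnn
  have hge2 : 0 ≤ a * (2 * (m : ℤ) - a * (lin K).card) := by omega
  have hm1 : (1 : ℤ) ≤ m := by exact_mod_cast hm0
  have hN : (2 : ℤ) ≤ (lin K).card := by exact_mod_cast b.card_two_le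
  have ha0 : 0 ≤ a := by
    by_contra hlt
    nlinarith [mul_pos (neg_pos.2 (not_le.1 hlt))
      (show (0 : ℤ) < 2 * m - a * (lin K).card by nlinarith)]
  have hle : a * (lin K).card ≤ 2 * (m : ℤ) := by
    rcases eq_or_lt_of_le ha0 with e | e
    · rw [← e]; omega
    · by_contra hlt
      nlinarith [mul_pos e (sub_pos.2 (not_le.1 hlt))]
  lift a to ℕ using ha0
  exact ⟨a, m, by rw [ha, Int.cast_natCast], hm, by exact_mod_cast hle⟩

/-- The coefficient depends only on the degree. -/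
theorem coef_eq {χ χ' : L → ℂ} (h : χ ∈ Cfsg.inducedIrrAbove K ⊥) (hY : χ ∉ lin K)
    (h' : χ' ∈ Cfsg.inducedIrrAbove K ⊥) (hY' : χ' ∉ lin K) (e : χ 1 = χ' 1) :
    coef K τ T₀ ζ χ = coef K τ T₀ ζ χ' := by
  set U : Set (L → ℂ) :=
    {φ | φ ∈ Cfsg.inducedIrrAbove K ⊥ ∧ φ ∉ lin K ∧ φ 1 = χ 1} with hU
  have hUc : ∀ φ ∈ U, Cfsg.conjFun φ ∈ U := fun φ hφ => ⟨b.sys.conj_mem φ hφ.1,
    fun hl => hφ.2.1 (by rw [← conjFun_conjFun φ]; exact InducedSystem.conj_mem K hl),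
    by rw [sys_conj_one b.sys hφ.1, hφ.2.2]⟩
  have hχU : χ ∈ U := ⟨h, hY, rfl⟩
  have hχU' : χ' ∈ U := ⟨h', hY', e.symm⟩
  obtain ⟨-, T, hT, hag⟩ := EqualDegree.coherent_of_equal_degree
    (Iterate.sys_mono b.sys (fun φ hφ => hφ.1) ⟨χ, hχU⟩ hUc)
    (fun φ hφ ψ hψ => hφ.2.2.trans hψ.2.2.symm)
  have hz : ∀ φ ∈ U, Cfsg.classInner (T φ) (T₀ ζ) = 0 := by
    intro φ hφ
    obtain ⟨x, hx⟩ := Criterion.image_mem b.sys (fun y hy => hy.1) hT hag hφ (hUc φ hφ)
    rw [hx, classInner_sum_left]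
    refine Finset.sum_eq_zero fun r hr => ?_
    rw [classInner_smul_left, classInner_gen_comm (b.sys.virtual φ hφ.1 r hr) (b.T_gen b.zeta),
      b.R_orth hφ.1 hφ.2.1 b.zeta hr, mul_zero]
  have hd : dg K χ = dg K χ' := by rw [dg, dg, e]
  have hdiff : χ - χ' ∈ Cfsg.zspanOn U {1}ᶜ := mem_zspanOn_one.2
    ⟨zspan_sub (subset_zspan _ hχU) (subset_zspan _ hχU'), by rw [Pi.sub_apply, e, sub_self]⟩
  have key : τ (χ - dg K χ • ζ) - τ (χ' - dg K χ' • ζ) = T χ - T χ' := by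
    rw [← iso_sub b.sys.isometry (b.phi_mem h) (b.phi_mem h'), ← Criterion.span_iso_sub hT
      (subset_zspan _ hχU) (subset_zspan _ hχU'), hag _ hdiff, hd, sub_sub_sub_cancel_right]
  have := congrArg (fun f => Cfsg.classInner f (T₀ ζ)) key
  simp only [classInner_sub_left, hz χ hχU, hz χ' hχU', sub_zero] at this
  rw [coef, coef, hd]
  rw [hd] at this
  linear_combination this

/-- Vanishing coefficients give coherence. -/
theorem coherent_union {X : Finset (L → ℂ)} (hX : ↑X ⊆ Cfsg.inducedIrrAbove K ⊥)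
    (hXY : ∀ χ ∈ X, χ ∉ lin K) (hzero : ∀ χ ∈ X, coef K τ T₀ ζ χ = 0) :
    Cfsg.IsCoherent (↑(lin K ∪ X) : Set (L → ℂ)) {1}ᶜ τ := by
  have hsub : (↑(lin K ∪ X) : Set (L → ℂ)) ⊆ Cfsg.inducedIrrAbove K ⊥ := fun φ hφ => by
    rcases Finset.mem_union.1 (Finset.mem_coe.1 hφ) with h | h
    · exact mem_S h
    · exact hX (Finset.mem_coe.2 h)
  let f : (L → ℂ) → (G → ℂ) := fun φ =>
    if φ ∈ lin K then T₀ φ else τ (φ - dg K φ • ζ) + dg K φ • T₀ ζ
  have hf0 : ∀ φ ∈ lin K, f φ = T₀ φ := fun φ h => if_pos h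
  have hf1 : ∀ φ ∈ X, f φ = τ (φ - dg K φ • ζ) + dg K φ • T₀ ζ := fun φ h => if_neg (hXY φ h)
  have hcr : ∀ η ∈ lin K, ∀ χ ∈ X, Cfsg.classInner (f χ) (f η) = 0 := by
    intro η hη χ hχ
    rw [hf0 η hη, hf1 χ hχ, classInner_add_left, classInner_smul_left,
      b.inner_T (hX hχ) (hXY χ hχ) hη, hzero χ hχ, b.T_inner b.zeta hη]
    by_cases e : η = ζ
    · rw [if_pos e, if_pos e.symm]; ring
    · rw [if_neg e, if_neg (Ne.symm e)]; ring
  refine coherent_of_images (fun χ hχ φ hφ hne => b.sys.orthogonal χ (hsub hχ) φ (hsub hφ) hne)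
    (fun χ hχ => sys_ne_zero b.sys (hsub hχ)) f (fun χ hχ => ?_) (fun χ hχ φ hφ => ?_)
    (exists_ne_zero_zspanOn b.sys b.zeta_S (Finset.mem_coe.2 (Finset.mem_union_left _ b.zeta))
      (Finset.mem_coe.2 (Finset.mem_union_left _ (InducedSystem.conj_mem K b.zeta)))) ?_
  · rcases Finset.mem_union.1 hχ with h | h
    · rw [hf0 χ h]; exact b.T_gen h
    · rw [hf1 χ h]
      obtain ⟨m, -, hm, -⟩ := exists_dg (hX (Finset.mem_coe.2 h))
      rw [show dg K χ • T₀ ζ = ((m : ℤ) : ℂ) • T₀ ζ by rw [hm, Int.cast_natCast]]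
      exact gen_add (b.phi_gen (hX h)) (gen_intCast_smul (b.T_gen b.zeta) _)
  · rcases Finset.mem_union.1 hχ with h | h <;> rcases Finset.mem_union.1 hφ with h' | h'
    · rw [hf0 χ h, hf0 φ h', b.iso.2.2.1 _ (subset_zspan _ h) _ (subset_zspan _ h')]
    · rw [← classInner_conj_symm (f φ) (f χ), hcr χ h φ h', map_zero,
        b.sys.orthogonal χ (mem_S h) φ (hX h') (fun e => hXY φ h' (e ▸ h))]
    · rw [hcr φ h' χ h, b.sys.orthogonal χ (hX h) φ (mem_S h') (fun e => hXY χ h (e ▸ h'))]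
    · obtain ⟨m, -, hm, -⟩ := exists_dg (hX (Finset.mem_coe.2 h))
      obtain ⟨m', -, hm', -⟩ := exists_dg (hX (Finset.mem_coe.2 h'))
      rw [hf1 χ h, hf1 φ h', classInner_add_left, classInner_add_right, classInner_add_right,
        classInner_smul_left, classInner_smul_left, classInner_smul_right, classInner_smul_right,
        b.phi_phi (hX h) (hXY χ h) (hX h') (hXY φ h'), b.inner_T (hX h) (hXY χ h) b.zeta,
        classInner_gen_comm (b.T_gen b.zeta) (b.phi_gen (hX h')),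
        b.inner_T (hX h') (hXY φ h') b.zeta, hzero χ h, hzero φ h', b.T_inner b.zeta b.zeta,
        if_pos rfl, if_pos rfl, if_pos rfl, hm, hm', map_natCast]
      ring
  · intro T hT α hα
    -- every combination differs from a multiple of `ζ` by a combination on which `T` is `τ`
    suffices key : ∀ β ∈ Cfsg.zspan (↑(lin K ∪ X) : Set (L → ℂ)),
        β - dg K β • ζ ∈ Cfsg.zspanOn (Cfsg.inducedIrrAbove K ⊥) {1}ᶜ ∧
          T β - dg K β • T₀ ζ = τ (β - dg K β • ζ) by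
      obtain ⟨hαs, hα1⟩ := mem_zspanOn_one.1 hα
      obtain ⟨-, h2⟩ := key α hαs
      have hd : dg K α = 0 := by rw [dg, hα1, zero_div]
      rwa [hd, zero_smul, zero_smul, sub_zero, sub_zero] at h2
    intro β hβ
    induction hβ using Submodule.span_induction with
    | mem φ hφ =>
      refine ⟨b.phi_mem (hsub hφ), ?_⟩
      rcases Finset.mem_union.1 (Finset.mem_coe.1 hφ) with h | h
      · rw [hT φ (Finset.mem_coe.1 hφ), hf0 φ h, b.dg_lin h, one_smul, one_smul,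
          b.T_sub h b.zeta]
      · rw [hT φ (Finset.mem_coe.1 hφ), hf1 φ h, add_sub_cancel_right]
    | zero =>
      have hd : dg K (0 : L → ℂ) = 0 := by rw [dg, Pi.zero_apply, zero_div]
      rw [hd, zero_smul, zero_smul, sub_zero, sub_zero, map_zero, iso_zero b.sys.isometry]
      exact ⟨(zspanOnMod _ _).zero_mem, rfl⟩
    | add x y _ _ hx hy =>
      have hd : dg K (x + y) = dg K x + dg K y := by rw [dg, dg, dg, Pi.add_apply, add_div]
      rw [hd, add_smul, add_smul, map_add,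
        show x + y - (dg K x • ζ + dg K y • ζ) = x - dg K x • ζ + (y - dg K y • ζ) by abel]
      refine ⟨(zspanOnMod _ _).add_mem hx.1 hy.1, ?_⟩
      rw [b.sys.isometry.1 _ hx.1 _ hy.1, ← hx.2, ← hy.2]
      abel
    | smul n x _ hx =>
      have hd : dg K (n • x) = (n : ℂ) * dg K x := by
        rw [dg, dg, Pi.smul_apply, zsmul_eq_mul, mul_div_assoc]
      rw [hd, mul_smul, mul_smul, map_zsmul, ← Int.cast_smul_eq_zsmul ℂ n x,
        ← Int.cast_smul_eq_zsmul ℂ n (T x), ← smul_sub, ← smul_sub]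
      refine ⟨?_, by rw [hx.2, iso_smul b.sys.isometry hx.1]⟩
      rw [Int.cast_smul_eq_zsmul]
      exact (zspanOnMod _ _).smul_mem n hx.1

/-- The other isometry when there are exactly two linear-layer characters. -/
theorem swap (h2 : (lin K).card = 2) :
    ∃ T₁, Base K τ R T₁ ζ ∧ ∀ χ, coef K τ T₁ ζ χ =
      dg K χ - Cfsg.classInner (τ (χ - dg K χ • ζ)) (T₀ (Cfsg.conjFun ζ)) := by
  have hcm : Cfsg.conjFun ζ ∈ lin K := InducedSystem.conj_mem K b.zeta
  have hne : Cfsg.conjFun ζ ≠ ζ := b.sys.conj_ne ζ b.zeta_S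
  have hY : lin K = {ζ, Cfsg.conjFun ζ} := (Finset.eq_of_subset_of_card_le (fun x hx => by
    rcases Finset.mem_insert.1 hx with rfl | hx
    · exact b.zeta
    · rwa [Finset.mem_singleton.1 hx]) (by rw [h2, Finset.card_pair hne.symm])).symm
  let f : (L → ℂ) → (G → ℂ) := fun η => -T₀ (Cfsg.conjFun η)
  have hgram : ∀ χ ∈ lin K, ∀ φ ∈ lin K,
      Cfsg.classInner (f χ) (f φ) = Cfsg.classInner χ φ := by
    intro χ hχ φ hφ
    have hc := InducedSystem.conj_mem K hχ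
    have hc' := InducedSystem.conj_mem K hφ
    rw [classInner_neg_left, classInner_neg_right, neg_neg, b.T_inner hc hc']
    by_cases e : χ = φ
    · subst e; rw [if_pos rfl, b.norm χ hχ]
    · rw [if_neg (fun e' => e (by rw [← conjFun_conjFun χ, e', conjFun_conjFun])),
        b.sys.orthogonal χ (mem_S hχ) φ (mem_S hφ) e]
  have hsubS : ∀ φ ∈ lin K, φ ∈ Cfsg.inducedIrrAbove K ⊥ := fun φ h => mem_S h
  have hagree : ∀ T : (L → ℂ) →ₗ[ℂ] (G → ℂ), (∀ χ ∈ lin K, T χ = f χ) →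
      ∀ α ∈ Cfsg.zspanOn (↑(lin K) : Set (L → ℂ)) {1}ᶜ, T α = τ α := by
    intro T hT α hα
    suffices key : ∀ β ∈ Cfsg.zspan (↑(lin K) : Set (L → ℂ)), ∃ i j : ℤ,
        β = (i : ℂ) • ζ + (j : ℂ) • Cfsg.conjFun ζ by
      obtain ⟨i, j, e⟩ := key α hα.1
      have h1 : (i : ℂ) + j = 0 := by
        have := (mem_zspanOn_one.1 hα).2
        rw [e, Pi.add_apply, Pi.smul_apply, Pi.smul_apply, b.degree ζ b.zeta, b.degree _ hcm,
          smul_eq_mul, smul_eq_mul, ← add_mul, mul_eq_zero] at this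
        exact this.resolve_right (index_ne_zero K)
      have e2 : α = (i : ℂ) • (ζ - Cfsg.conjFun ζ) := by
        rw [e, smul_sub, show (j : ℂ) = -(i : ℂ) by linear_combination h1, neg_smul]; abel
      rw [e2, map_smul, map_sub, hT ζ b.zeta, hT _ hcm, iso_smul b.sys.isometry
        (zspanOn_mono _ (fun x hx => hsubS x (Finset.mem_coe.1 hx)) (b.lin_diff b.zeta hcm))]
      congr 1
      rw [← b.T_sub b.zeta hcm]
      show -T₀ (Cfsg.conjFun ζ) - -T₀ (Cfsg.conjFun (Cfsg.conjFun ζ)) = _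
      rw [conjFun_conjFun]; abel
    intro β hβ
    induction hβ using Submodule.span_induction with
    | mem φ hφ =>
      rw [hY] at hφ
      rcases Finset.mem_insert.1 (Finset.mem_coe.1 hφ) with rfl | h
      · exact ⟨1, 0, by simp⟩
      · exact ⟨0, 1, by rw [Finset.mem_singleton.1 h]; simp⟩
    | zero => exact ⟨0, 0, by simp⟩
    | add x y _ _ hx hy =>
      obtain ⟨i, j, rfl⟩ := hx; obtain ⟨k, l, rfl⟩ := hy
      exact ⟨i + k, j + l, by push_cast; rw [add_smul, add_smul]; abel⟩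
    | smul n x _ hx =>
      obtain ⟨i, j, rfl⟩ := hx
      exact ⟨n * i, n * j, by push_cast; rw [smul_add, ← Int.cast_smul_eq_zsmul ℂ n,
        ← Int.cast_smul_eq_zsmul ℂ n (_ • Cfsg.conjFun ζ), smul_smul, smul_smul]⟩
  obtain ⟨T, hT⟩ : ∃ T : (L → ℂ) →ₗ[ℂ] (G → ℂ), ∀ χ ∈ lin K, T χ = f χ :=
    ⟨linExt (lin K) f, fun χ hχ => linExt_apply f
      (fun a ha c hc hne => b.sys.orthogonal a (hsubS a ha) c (hsubS c hc) hne)
      (fun a ha => sys_ne_zero b.sys (hsubS a ha)) hχ⟩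
  refine ⟨T, ⟨b.sys, isometry_linearMap T (fun χ hχ => ?_) (fun χ hχ φ hφ => ?_), hagree T hT,
    b.zeta, b.norm, b.degree⟩, fun χ => ?_⟩
  · rw [hT χ (Finset.mem_coe.1 hχ)]
    exact gen_neg (b.T_gen (InducedSystem.conj_mem K (Finset.mem_coe.1 hχ)))
  · rw [hT χ (Finset.mem_coe.1 hχ), hT φ (Finset.mem_coe.1 hφ),
      hgram χ (Finset.mem_coe.1 hχ) φ (Finset.mem_coe.1 hφ)]
  · rw [coef, hT ζ b.zeta, classInner_neg_right]
    ring

/-- Coherence when the coefficients all vanish or, with two linear-layer characters, all equal the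
degrees. -/
theorem coherent_of_coef {X : Finset (L → ℂ)} (hX : ↑X ⊆ Cfsg.inducedIrrAbove K ⊥)
    (hXY : ∀ χ ∈ X, χ ∉ lin K)
    (h : (∀ χ ∈ X, coef K τ T₀ ζ χ = 0) ∨
      ((lin K).card = 2 ∧ ∀ χ ∈ X, coef K τ T₀ ζ χ = dg K χ)) :
    Cfsg.IsCoherent (↑(lin K ∪ X) : Set (L → ℂ)) {1}ᶜ τ := by
  rcases h with h | ⟨h2, h⟩
  · exact b.coherent_union hX hXY h
  obtain ⟨T₁, b₁, hcoef⟩ := b.swap h2
  refine b₁.coherent_union hX hXY fun χ hχ => ?_
  rw [hcoef, b.inner_T (hX hχ) (hXY χ hχ) (InducedSystem.conj_mem K b.zeta),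
    if_neg (b.sys.conj_ne ζ b.zeta_S), h χ hχ]
  ring

end Base

end Cfsg.Agent.Lib.OddOrder.PF10.Sibley
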