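import Cfsg.Agent.Lib.OddOrder.PF10.Sibley.Congruence
import Cfsg.Agent.Lib.OddOrder.PF10.Residual.Kernel
import Cfsg.Agent.Lib.CyclicTI.Semidirect
import Cfsg.Agent.Lib.PGroups.Omega
import Cfsg.Agent.Lib.FpfLinear.Regular
import Cfsg.Agent.Lib.Isometry.KernelCoherence

/-!
# The kernel `K` of `L = K ⋊ W₁` when `W₂ < K'` and `K` is a `p`-group

The choice of the central subgroup `Z ≤ K'`: either `Z ⊓ W₂ = ⊥` (free case; then the characters not
trivial on `Z` induce irreducibly and `|Z| ≥ 2 q + 1`), or `Z` has order `p` and is central in `L`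
(then `[K : Z] ≥ q ^ 2`).

Owner: helper43.
-/

set_option autoImplicit false
set_option linter.style.haveILetI false
set_option linter.unusedSectionVars false

namespace Cfsg.Agent.Lib.OddOrder.PF10.Sibley

open scoped Classical commutatorElement
open Cfsg.Agent.Lib
open Cfsg.Agent.Lib.CyclicTI (IsPLike)

universe u

variable {L : Type u} [Group L] [Fintype L] {K W₁ W₂ : Subgroup L} [hK : K.Normal]
  (h : IsPLike K W₁ W₂)

include h

/-- Outside `W₂` the action of `W₁` on a subgroup of `K` is free. -/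
theorem dvd_card_sdiff (X : Subgroup L) [X.Normal] (hXK : X ≤ K) :
    K.index ∣ Nat.card {x : L // x ∈ X ∧ x ∉ W₂} := by
  haveI : Finite L := inferInstance
  have hconj : ∀ w ∈ W₁, ∀ x : L, x ∈ K → (w * x * w⁻¹ ∈ W₂ ↔ x ∈ W₂) := by
    intro w hw x _
    have hfix : ∀ y ∈ W₂, w * y * w⁻¹ = y := fun y hy => by
      rcases eq_or_ne w 1 with rfl | hw1
      · simp
      have hy' : y ∈ K ⊓ Subgroup.centralizer ({w} : Set L) := by rw [h.cent w hw hw1]; exact hy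
      rw [← Subgroup.mem_centralizer_singleton_iff.1 hy'.2, mul_inv_cancel_right]
    refine ⟨fun hy => ?_, fun hx => by rw [hfix x hx]; exact hx⟩
    have e := hfix _ hy
    have e2 : w * x * w⁻¹ = x := by
      have := congrArg (fun t => w⁻¹ * t * w) e
      simpa [mul_assoc] using this
    rwa [e2] at hy
  letI : MulAction ↥W₁ {x : L // x ∈ X ∧ x ∉ W₂} :=
    { smul := fun w x => ⟨(w : L) * x.1 * (w : L)⁻¹,
        Subgroup.Normal.conj_mem inferInstance x.1 x.2.1 _,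
        fun hc => x.2.2 ((hconj w w.2 x.1 (hXK x.2.1)).1 hc)⟩
      one_smul := fun x => Subtype.ext (by
        show ((1 : ↥W₁) : L) * x.1 * ((1 : ↥W₁) : L)⁻¹ = x.1
        simp)
      mul_smul := fun a c x => Subtype.ext (by
        show ((a * c : ↥W₁) : L) * x.1 * ((a * c : ↥W₁) : L)⁻¹ =
          (a : L) * ((c : L) * x.1 * (c : L)⁻¹) * (a : L)⁻¹
        simp [mul_assoc]) }
  rw [h.index_eq]
  refine FpfLinear.Regular.card_dvd_of_free fun x => ?_
  rw [Subgroup.eq_bot_iff_forall]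
  intro w hw
  rw [MulAction.mem_stabilizer_iff] at hw
  have e : (w : L) * x.1 * (w : L)⁻¹ = x.1 := congrArg Subtype.val hw
  by_contra hne
  refine x.2.2 ((SetLike.ext_iff.1 (h.cent w w.2 fun e' => hne (Subtype.ext e')) x.1).1 ?_)
  exact ⟨hXK x.2.1, Subgroup.mem_centralizer_singleton_iff.2 (mul_inv_eq_iff_eq_mul.1 e).symm⟩

theorem card_sdiff (X : Subgroup L) :
    Nat.card {x : L // x ∈ X ∧ x ∉ W₂} + Nat.card ↥(X ⊓ W₂) = Nat.card ↥X := by
  have e := Nat.card_congr (Equiv.sumCompl (fun x : X => (x : L) ∈ W₂))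
  rw [Nat.card_sum] at e
  have e1 : Nat.card {x : X // (x : L) ∈ W₂} = Nat.card ↥(X ⊓ W₂) :=
    Nat.card_congr ⟨fun x => ⟨x.1.1, x.1.2, x.2⟩, fun x => ⟨⟨x.1, x.2.1⟩, x.2.2⟩, fun _ => rfl,
      fun _ => rfl⟩
  have e2 : Nat.card {x : X // ¬ (x : L) ∈ W₂} = Nat.card {x : L // x ∈ X ∧ x ∉ W₂} :=
    Nat.card_congr ⟨fun x => ⟨x.1.1, x.1.2, x.2⟩, fun x => ⟨⟨x.1, x.2.1⟩, x.2.2⟩, fun _ => rfl,
      fun _ => rfl⟩
  omega

/-- A central subgroup meeting `W₂` trivially is large. -/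
theorem card_free (hodd : Odd (Nat.card L)) (Z : Subgroup L) [Z.Normal] (hZK : Z ≤ K)
    (hZW : Z ⊓ W₂ = ⊥) (hZ : Z ≠ ⊥) : 2 * K.index + 1 ≤ Nat.card Z := by
  have h1 := dvd_card_sdiff h Z hZK
  have h2 := card_sdiff h Z
  rw [hZW, Subgroup.card_bot] at h2
  refine Isometry.Layers.two_mul_add_one_le (hodd.of_dvd_nat (Subgroup.card_subgroup_dvd_card Z))
    (hodd.of_dvd_nat (Subgroup.index_dvd_card K)) (fun e => hZ (Subgroup.card_eq_one.1 e)) ?_
  have hm : Nat.card {x : L // x ∈ Z ∧ x ∉ W₂} + 1 ≡ 0 + 1 [MOD K.index] :=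
    Nat.ModEq.add_right 1 (Nat.modEq_zero_iff_dvd.2 h1)
  rwa [zero_add, h2] at hm

/-- The characters not trivial on such a subgroup induce irreducibly. -/
theorem isIrr_free {Z : Subgroup L} [Z.Normal] (hZK : Z ≤ K) (hZW : Z ⊓ W₂ = ⊥)
    (hZc : ∀ z ∈ Z, ∀ k ∈ K, z * k = k * z) {θ : K → ℂ} (hθ : θ ∈ offZ K Z) :
    Cfsg.IsIrrCharacter L (Cfsg.indFun K θ) := by
  obtain ⟨hi, z₁, hz₁, hne⟩ := mem_offZ.1 hθ
  refine Induced.Mackey.isIrrCharacter_indFun K hi fun g hg => ?_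
  obtain ⟨k, hk, v, hv, rfl⟩ : ∃ k ∈ K, ∃ v ∈ W₁, k * v = g :=
    Subgroup.mem_sup_of_normal_left.mp (h.sup_eq ▸ Subgroup.mem_top g)
  rcases eq_or_ne v 1 with rfl | hv1
  · rwa [mul_one]
  exfalso
  rw [Clifford.Basic.conjC_mul, Clifford.Basic.conjC_of_mem K
    (Characters.Basic.isClassFunction_irr ⟨θ, hi⟩) hk] at hg
  refine hne ?_
  -- every element of `Z` is a commutator `[v, z]`
  let f : Z → Z := fun z =>
    ⟨v * z * v⁻¹ * (z : L)⁻¹, Z.mul_mem (Subgroup.Normal.conj_mem inferInstance _ z.2 v) (Z.inv_mem z.2)⟩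
  have hf : Function.Injective f := by
    intro a c hac
    have e : v * (a : L) * v⁻¹ * (a : L)⁻¹ = v * (c : L) * v⁻¹ * (c : L)⁻¹ := congrArg Subtype.val hac
    have e2 : v * ((c : L)⁻¹ * a) * v⁻¹ = (c : L)⁻¹ * a := by
      calc v * ((c : L)⁻¹ * a) * v⁻¹
          = (v * (c : L) * v⁻¹)⁻¹ * (v * (a : L) * v⁻¹ * (a : L)⁻¹ * a) := by group
        _ = (v * (c : L) * v⁻¹)⁻¹ * (v * (c : L) * v⁻¹ * (c : L)⁻¹ * a) := by rw [e]
        _ = (c : L)⁻¹ * a := by group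
    have hmem : (c : L)⁻¹ * a ∈ Z ⊓ W₂ := ⟨Z.mul_mem (Z.inv_mem c.2) a.2, by
      rw [← h.cent v hv hv1]
      exact ⟨K.mul_mem (K.inv_mem (hZK c.2)) (hZK a.2), Subgroup.mem_centralizer_singleton_iff.2
        (mul_inv_eq_iff_eq_mul.1 e2).symm⟩⟩
    rw [hZW, Subgroup.mem_bot, inv_mul_eq_one] at hmem
    exact Subtype.ext hmem.symm
  obtain ⟨z, hz⟩ := Finite.injective_iff_surjective.1 hf ⟨(z₁ : L), hz₁⟩
  have hz' : v * (z : L) * v⁻¹ * (z : L)⁻¹ = (z₁ : L) := congrArg Subtype.val hz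
  have hcen : ∀ x : K, (x : L) ∈ Z → x ∈ Subgroup.center K := fun x hx =>
    Subgroup.mem_center_iff.2 fun c => Subtype.ext (hZc x hx c c.2).symm
  have hfix : θ ⟨v * z * v⁻¹, hK.conj_mem _ (hZK z.2) v⟩ = θ ⟨z, hZK z.2⟩ := congrFun hg ⟨z, hZK z.2⟩
  have hmul := Chars82.PGroupChars.mul_center ⟨θ, hi⟩ (hcen z₁ hz₁) ⟨(z : L), hZK z.2⟩
  rw [show z₁ * ⟨(z : L), hZK z.2⟩ = (⟨v * z * v⁻¹, hK.conj_mem _ (hZK z.2) v⟩ : K) from
    Subtype.ext (by
      show (z₁ : L) * z = v * z * v⁻¹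
      rw [← hz', inv_mul_cancel_right])] at hmul
  have hmul' : θ ⟨(z : L), hZK z.2⟩ = θ z₁ / θ 1 * θ ⟨(z : L), hZK z.2⟩ := hfix.symm.trans hmul
  have hθz : θ ⟨(z : L), hZK z.2⟩ ≠ 0 := by
    have := Chars82.PGroupChars.apply_center ⟨θ, hi⟩ ⟨⟨(z : L), hZK z.2⟩, hcen _ z.2⟩
    intro h0
    rw [show ((⟨θ, hi⟩ : Cfsg.IrrCharacter K) : K → ℂ) ⟨(z : L), hZK z.2⟩ = θ ⟨(z : L), hZK z.2⟩ from rfl,
      h0, eq_comm, mul_eq_zero] at this
    rcases this with h1 | h1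
    · have := Chars82.PGroupChars.norm_omegaZ ⟨θ, hi⟩ ⟨⟨(z : L), hZK z.2⟩, hcen _ z.2⟩
      rw [h1, norm_zero] at this
      exact zero_ne_one this
    · exact Characters.Basic.apply_one_ne_zero ⟨θ, hi⟩ h1
  have h1 := mul_right_cancel₀ hθz ((one_mul _).trans hmul')
  rw [eq_div_iff (Characters.Basic.apply_one_ne_zero ⟨θ, hi⟩), one_mul] at h1
  exact h1.symm

/-- The choice of `Z`. -/
theorem exists_Z {p : ℕ} [Fact p.Prime] (hK : IsPGroup p K) (hK' : ⁅K, K⁆ ≠ ⊥) :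
    ∃ Z : Subgroup L, Z.Normal ∧ Z ≤ ⁅K, K⁆ ∧ Z ≠ ⊥ ∧ (∀ z ∈ Z, ∀ k ∈ K, z * k = k * z) ∧
      (Z ⊓ W₂ = ⊥ ∨ (Nat.card Z = p ∧ Z ≤ W₂ ∧ ∀ z ∈ Z, ∀ x : L, z * x = x * z)) := by
  set V := ⁅K, K⁆ ⊓ Subgroup.centralizer (K : Set L) with hV
  haveI : V.Normal := Subgroup.normal_inf_normal _ _
  have hVK : V ≤ K := inf_le_left.trans (Subgroup.commutator_le_self K)
  have hVc : ∀ z ∈ V, ∀ k ∈ K, z * k = k * z := fun z hz k hk =>
    (Subgroup.mem_centralizer_iff.1 hz.2 k hk).symm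
  have hV0 : V ≠ ⊥ := by
    have hne : (⁅K, K⁆).subgroupOf K ≠ ⊥ := fun e => hK' (by
      have h1 := disjoint_iff.1 (Subgroup.subgroupOf_eq_bot.1 e)
      rwa [inf_eq_left.2 (Subgroup.commutator_le_self K)] at h1)
    obtain ⟨x, hx, hx1⟩ := (Subgroup.bot_or_exists_ne_one _).resolve_left
      (PGroups.normal_inf_center_ne_bot hK ((⁅K, K⁆).subgroupOf K) hne)
    intro e
    have : (x : L) ∈ V := ⟨Subgroup.mem_subgroupOf.1 hx.1, Subgroup.mem_centralizer_iff.2 fun k hk =>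
      congrArg Subtype.val (Subgroup.mem_center_iff.1 hx.2 ⟨k, hk⟩)⟩
    rw [e, Subgroup.mem_bot] at this
    exact hx1 (Subtype.ext this)
  by_cases hle : V ≤ W₂
  · -- a subgroup of order `p`
    have hVp : p ∣ Nat.card V := by
      obtain ⟨n, hn⟩ := IsPGroup.iff_card.1 hK
      obtain ⟨m, -, hm⟩ := (Nat.dvd_prime_pow (Fact.out : p.Prime)).1
        (hn ▸ Subgroup.card_dvd_of_le hVK)
      rcases Nat.eq_zero_or_pos m with rfl | hm0
      · exact absurd (Subgroup.card_eq_one.1 (by rw [hm, pow_zero])) hV0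
      · rw [hm]; exact dvd_pow_self p hm0.ne'
    obtain ⟨z, hz⟩ := exists_prime_orderOf_dvd_card' (G := V) p hVp
    have hzc : ∀ x : L, (z : L) * x = x * z := by
      intro x
      obtain ⟨k, hk, w, hw, rfl⟩ : ∃ k ∈ K, ∃ w ∈ W₁, k * w = x :=
        Subgroup.mem_sup_of_normal_left.mp (h.sup_eq ▸ Subgroup.mem_top x)
      have hzw : (z : L) * w = w * z := by
        rcases eq_or_ne w 1 with rfl | hw1
        · simp
        have hz' : (z : L) ∈ K ⊓ Subgroup.centralizer ({w} : Set L) := by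
          rw [h.cent w hw hw1]; exact hle z.2
        exact Subgroup.mem_centralizer_singleton_iff.1 hz'.2
      rw [← mul_assoc, hVc z z.2 k hk, mul_assoc, hzw, mul_assoc]
    have hzW : Subgroup.zpowers (z : L) ≤ V := (Subgroup.zpowers_le).2 z.2
    have hc : ∀ y ∈ Subgroup.zpowers (z : L), ∀ x : L, y * x = x * y := by
      rintro _ ⟨n, rfl⟩ x
      exact ((show Commute (z : L) x from hzc x).zpow_left n).eq
    refine ⟨Subgroup.zpowers (z : L), ⟨fun y hy g => ?_⟩, hzW.trans inf_le_left, ?_,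
      fun y hy k hk => hVc y (hzW hy) k hk, Or.inr ⟨?_, hzW.trans hle, hc⟩⟩
    · rw [← hc y hy g, mul_inv_cancel_right]; exact hy
    · intro e
      rw [Subgroup.zpowers_eq_bot] at e
      have := orderOf_eq_one_iff.2 (Subtype.ext e : z = 1)
      exact (Fact.out : p.Prime).ne_one (hz.symm.trans this)
    · rw [Nat.card_zpowers, Subgroup.orderOf_coe, hz]
  · -- the commutators with a generator of `W₁`
    haveI := h.cyclic₁
    obtain ⟨w, hw⟩ := IsCyclic.exists_generator (α := ↥W₁)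
    have hw1 : (w : L) ≠ 1 := fun e => h.ne₁ (by
      rw [Subgroup.eq_bot_iff_forall]
      intro x hx
      obtain ⟨n, hn⟩ := hw ⟨x, hx⟩
      have h1 : w = 1 := Subtype.ext e
      rw [h1] at hn
      simpa using (congrArg Subtype.val hn).symm)
    have hcw : ∀ x ∈ K, (w : L) * x * (w : L)⁻¹ = x → x ∈ W₂ := fun x hx e => by
      rw [← h.cent w w.2 hw1]
      exact ⟨hx, Subgroup.mem_centralizer_singleton_iff.2 (mul_inv_eq_iff_eq_mul.1 e).symm⟩
    have hVV : ∀ a ∈ V, ∀ c ∈ V, a * c = c * a := fun a ha c hc => hVc a ha c (hVK hc)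
    let φ : V →* V :=
      { toFun := fun x => ⟨(w : L) * x * (w : L)⁻¹ * (x : L)⁻¹,
          V.mul_mem (Subgroup.Normal.conj_mem inferInstance _ x.2 _) (V.inv_mem x.2)⟩
        map_one' := Subtype.ext (by simp)
        map_mul' := fun a c => Subtype.ext (by
          show (w : L) * ((a : L) * c) * (w : L)⁻¹ * ((a : L) * c)⁻¹ =
            (w : L) * a * (w : L)⁻¹ * (a : L)⁻¹ * ((w : L) * c * (w : L)⁻¹ * (c : L)⁻¹)
          have hc' : (w : L) * c * (w : L)⁻¹ ∈ V := Subgroup.Normal.conj_mem inferInstance _ c.2 _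
          have e1 := hVV (a : L)⁻¹ (V.inv_mem a.2) ((w : L) * c * (w : L)⁻¹ * (c : L)⁻¹)
            (V.mul_mem hc' (V.inv_mem c.2))
          calc (w : L) * ((a : L) * c) * (w : L)⁻¹ * ((a : L) * c)⁻¹
              = (w : L) * a * (w : L)⁻¹ * (((w : L) * c * (w : L)⁻¹ * (c : L)⁻¹) * (a : L)⁻¹) := by
                group
            _ = _ := by rw [← e1]; group) }
    set Z := φ.range.map V.subtype with hZ
    have hZV : Z ≤ V := Subgroup.map_subtype_le _
    refine ⟨Z, ⟨fun y hy g => ?_⟩, hZV.trans inf_le_left, fun e => hle fun x hx => ?_,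
      fun z hz k hk => hVc z (hZV hz) k hk, Or.inl ?_⟩
    · obtain ⟨k, hk, v, hv, rfl⟩ : ∃ k ∈ K, ∃ v ∈ W₁, k * v = g :=
        Subgroup.mem_sup_of_normal_left.mp (h.sup_eq ▸ Subgroup.mem_top g)
      obtain ⟨_, ⟨x, rfl⟩, rfl⟩ := hy
      have hx' : v * (x : L) * v⁻¹ ∈ V := Subgroup.Normal.conj_mem inferInstance _ x.2 v
      have hyv : v * ((φ x : V) : L) * v⁻¹ = ((φ ⟨_, hx'⟩ : V) : L) := by
        obtain ⟨n, hn⟩ := hw ⟨v, hv⟩
        have hcomm : v * (w : L) = (w : L) * v := by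
          have := congrArg Subtype.val hn
          simp only [SubgroupClass.coe_zpow] at this
          rw [← this]
          exact ((Commute.refl (w : L)).zpow_left n).eq
        show v * ((w : L) * x * (w : L)⁻¹ * (x : L)⁻¹) * v⁻¹ =
          (w : L) * (v * x * v⁻¹) * (w : L)⁻¹ * (v * (x : L) * v⁻¹)⁻¹
        calc v * ((w : L) * x * (w : L)⁻¹ * (x : L)⁻¹) * v⁻¹
            = (v * (w : L)) * x * (v * (w : L))⁻¹ * (v * (x : L) * v⁻¹)⁻¹ := by group
          _ = _ := by rw [hcomm]; group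
      have hmem : ((φ ⟨_, hx'⟩ : V) : L) ∈ Z := ⟨_, ⟨_, rfl⟩, rfl⟩
      have e : k * v * ((φ x : V) : L) * (k * v)⁻¹ = ((φ ⟨_, hx'⟩ : V) : L) := by
        rw [show k * v * ((φ x : V) : L) * (k * v)⁻¹ = k * (v * ((φ x : V) : L) * v⁻¹) * k⁻¹ by group,
          hyv, ← hVc _ (hZV hmem) k hk, mul_inv_cancel_right]
      show k * v * ((φ x : V) : L) * (k * v)⁻¹ ∈ Z
      rw [e]; exact hmem
    · refine hcw x (hVK hx) ?_
      have hm : ((φ ⟨x, hx⟩ : V) : L) ∈ Z := ⟨_, ⟨_, rfl⟩, rfl⟩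
      rw [e, Subgroup.mem_bot] at hm
      exact mul_inv_eq_one.1 hm
    · rw [Subgroup.eq_bot_iff_forall]
      intro y hy
      obtain ⟨_, ⟨x, rfl⟩, rfl⟩ := hy.1
      have hyW : ((φ x : V) : L) ∈ W₂ := hy.2
      show ((φ x : V) : L) = 1
      set y := ((φ x : V) : L) with hydef
      have hwy : (w : L) * y = y * w := by
        have h' : y ∈ K ⊓ Subgroup.centralizer ({(w : L)} : Set L) := by
          rw [h.cent w w.2 hw1]; exact hyW
        exact (Subgroup.mem_centralizer_singleton_iff.1 h'.2).symm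
      have hstep : ∀ n : ℕ, (w : L) ^ n * x * ((w : L) ^ n)⁻¹ = y ^ n * x := by
        intro n
        induction n with
        | zero => simp
        | succ n ih =>
          calc (w : L) ^ (n + 1) * x * ((w : L) ^ (n + 1))⁻¹
              = (w : L) * ((w : L) ^ n * x * ((w : L) ^ n)⁻¹) * (w : L)⁻¹ := by rw [pow_succ']; group
            _ = (w : L) * (y ^ n * x) * (w : L)⁻¹ := by rw [ih]
            _ = (w : L) * y ^ n * x * (w : L)⁻¹ := by group
            _ = y ^ n * ((w : L) * x * (w : L)⁻¹) := by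
                rw [((show Commute (w : L) y from hwy).pow_right n).eq]; group
            _ = y ^ n * (y * x) := by
                congr 1
                show (w : L) * x * (w : L)⁻¹ =
                  (w : L) * x * (w : L)⁻¹ * (x : L)⁻¹ * x
                group
            _ = y ^ (n + 1) * x := by rw [pow_succ]; group
      have hq := hstep (Nat.card W₁)
      rw [show (w : L) ^ Nat.card W₁ = 1 from congrArg Subtype.val (pow_card_eq_one' (x := w)),
        one_mul, inv_one, mul_one, eq_comm, mul_eq_right] at hq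
      rw [← orderOf_eq_one_iff]
      exact Nat.eq_one_of_dvd_coprimes h.coprime (orderOf_dvd_of_pow_eq_one hq)
        (Subgroup.orderOf_dvd_natCard _ (h.le hyW))

/-- In the central case the index of `Z` is large. -/
theorem relIndex_central (hodd : Odd (Nat.card L))
    (hfrob : ∀ k ∈ K, k ∉ ⁅K, K⁆ → ∀ x : L, x * k * x⁻¹ * k⁻¹ ∈ ⁅K, K⁆ → x ∈ K)
    (hK'lt : ⁅K, K⁆ < K) (hKtop : K < ⊤) (hW : W₂ ≤ ⁅K, K⁆) (hne : ⁅K, K⁆ ≠ W₂)
    {Z : Subgroup L} (hZW : Z ≤ W₂) : K.index ^ 2 ≤ Z.relIndex K := by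
  have hle := Subgroup.commutator_le_self K
  have hoddq := hodd.of_dvd_nat (Subgroup.index_dvd_card K)
  have h1 : 2 * K.index + 1 ≤ (⁅K, K⁆).relIndex K :=
    Isometry.Layers.two_mul_add_one_le
      ((hodd.of_dvd_nat (Subgroup.card_subgroup_dvd_card K)).of_dvd_nat (Subgroup.index_dvd_card _))
      hoddq (fun e => hK'lt.not_ge (Subgroup.relIndex_eq_one.1 e))
      (Isometry.KernelCoherence.relIndex_modEq_quotient hKtop le_rfl hle hfrob).2
  have h2 : 2 * K.index + 1 ≤ W₂.relIndex ⁅K, K⁆ := by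
    have hd := dvd_card_sdiff h ⁅K, K⁆ hle
    have hs := card_sdiff h ⁅K, K⁆
    rw [inf_eq_right.2 hW] at hs
    have hmul : Nat.card W₂ * W₂.relIndex ⁅K, K⁆ = Nat.card ↥⁅K, K⁆ := by
      have := Subgroup.relIndex_mul_relIndex (⊥ : Subgroup L) W₂ ⁅K, K⁆ bot_le hW
      rwa [Subgroup.relIndex_bot_left, Subgroup.relIndex_bot_left] at this
    refine Isometry.Layers.two_mul_add_one_le
      ((hodd.of_dvd_nat (Subgroup.card_subgroup_dvd_card ⁅K, K⁆)).of_dvd_nat ⟨_, by rw [mul_comm]; exact hmul.symm⟩)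
      hoddq (fun e => hne (le_antisymm (Subgroup.relIndex_eq_one.1 e) hW)) ?_
    have hm : Nat.card {x : L // x ∈ ⁅K, K⁆ ∧ x ∉ W₂} + Nat.card W₂ ≡ 0 + Nat.card W₂ [MOD K.index] :=
      Nat.ModEq.add_right _ (Nat.modEq_zero_iff_dvd.2 hd)
    rw [zero_add, hs, ← hmul] at hm
    conv at hm => rhs; rw [← mul_one (Nat.card W₂)]
    refine Nat.ModEq.cancel_left_of_coprime ?_ hm
    rw [h.index_eq]
    exact h.coprime.coprime_dvd_right (Subgroup.card_dvd_of_le h.le)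
  calc K.index ^ 2 ≤ (2 * K.index + 1) * (2 * K.index + 1) := by nlinarith
    _ ≤ W₂.relIndex ⁅K, K⁆ * (⁅K, K⁆).relIndex K := Nat.mul_le_mul h2 h1
    _ = W₂.relIndex K := Subgroup.relIndex_mul_relIndex _ _ _ hW hle
    _ ≤ Z.relIndex K := Nat.le_of_dvd
        (Nat.pos_of_ne_zero (Subgroup.index_ne_zero_of_finite (H := Z.subgroupOf K)))
        (Subgroup.relIndex_dvd_of_le_left K hZW)

end Cfsg.Agent.Lib.OddOrder.PF10.Sibley
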